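import Groth.Agent.An92.Morse.Coord
import Groth.Agent.An92.Morse.Base
import Groth.Agent.An92.Morse.Hensel
import Mathlib.RingTheory.EssentialFiniteness

/-! Charts at a maximal ideal with a non-degenerate quadratic singularity. -/

set_option autoImplicit false
set_option linter.style.haveILetI false

universe u

open IsLocalRing MvPowerSeries

namespace Groth.Agent.An92.MorseA

variable {K : Type u} [Field K] {n : ℕ}

local notation "S" => MvPowerSeries (Fin n) K

/-- The linear coefficients. -/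
noncomputable def lc (a : S) : Fin n → K := fun i => coeff (Finsupp.single i 1) a

theorem lc_of_mem_sq {a : S} (h : a ∈ maximalIdeal S ^ 2) : lc a = 0 :=
  funext fun i => QS97.ordGE_of_mem_pow 2 h _ (by simp)

theorem lc_add (a b : S) : lc (a + b) = lc a + lc b := funext fun i => map_add _ a b
theorem lc_sub (a b : S) : lc (a - b) = lc a - lc b := funext fun i => map_sub _ a b
theorem lc_C_mul (c : K) (a : S) : lc (C c * a) = c • lc a :=
  funext fun i => by simp only [lc, Pi.smul_apply, smul_eq_mul, coeff_C_mul]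

theorem lc_sum {ι : Type} [Fintype ι] (a : ι → S) : lc (∑ l, a l) = ∑ l, lc (a l) :=
  funext fun i => by simp only [lc, map_sum, Finset.sum_apply]

theorem lc_X (i : Fin n) : lc (X i : S) = Pi.single i 1 := funext fun j => by
  classical
  rw [lc, coeff_X, Pi.single_apply]
  simp [Finsupp.single_left_inj]

theorem lc_mul (a b : S) : lc (a * b) = constantCoeff a • lc b + constantCoeff b • lc a := by
  have h : (a - C (constantCoeff a)) * (b - C (constantCoeff b)) ∈ maximalIdeal S ^ 2 := by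
    rw [pow_two]
    exact Ideal.mul_mem_mul (CAlg6.mem_maximalIdeal_iff.2 (by simp)) (CAlg6.mem_maximalIdeal_iff.2 (by simp))
  have h2 : lc (C (constantCoeff a * constantCoeff b) : S) = 0 := funext fun i => by
    classical
    rw [lc, coeff_C, if_neg (by simp), Pi.zero_apply]
  have h3 := lc_of_mem_sq h
  rw [show (a - C (constantCoeff a)) * (b - C (constantCoeff b)) =
    a * b - (C (constantCoeff a) * b + C (constantCoeff b) * a) + C (constantCoeff a * constantCoeff b) by
      rw [map_mul]; ring, lc_add, lc_sub, lc_add, lc_C_mul, lc_C_mul, h2, add_zero, sub_eq_zero] at h3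
  exact h3

/-- A power series is determined to first order by its constant and linear coefficients. -/
theorem sub_lin_mem {a : S} (h : constantCoeff a = 0) :
    a - ∑ i, C (lc a i) * X i ∈ maximalIdeal S ^ 2 := by
  refine QS97.mem_pow_of_ordGE 2 fun d hd => ?_
  obtain hd0 | hd1 : d.degree = 0 ∨ d.degree = 1 := by omega
  · rw [(Finsupp.degree_eq_zero_iff d).1 hd0, coeff_zero_eq_constantCoeff_apply, map_sub, h, map_sum]
    simp
  · obtain ⟨j, rfl⟩ := QS97.exists_single hd1
    classical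
    simp [lc, coeff_X, Finsupp.single_left_inj, Finset.sum_ite_eq]

/-- A chart at a maximal ideal, for a property of the quadratic part implying ordinarity. -/
theorem exists_chart' (T : Type u) [CommRing T] [Algebra K T] [Algebra.EssFiniteType K T] (M : Ideal T)
    [M.IsMaximal] (Pd : (Fin (n + 1) → Fin (n + 1) → K) → Prop) (hPd : ∀ a, Pd a → VanCyc.QuadOrd a)
    (hs : ∃ f : MvPowerSeries (Fin (n + 1)) K, (VanCyc.NoLowTerms f ∧ Pd (VanCyc.quadPart f)) ∧
      Nonempty (AdicCompletion (maximalIdeal (Localization.AtPrime M)) (Localization.AtPrime M) ≃ₐ[K]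
        (MvPowerSeries (Fin (n + 1)) K ⧸ Ideal.span {f}))) :
    ∃ (q : Fin (n + 1) → Fin (n + 1) → K) (f : MvPowerSeries (Fin (n + 1)) K)
      (ε : T →ₐ[K] MvPowerSeries (Fin (n + 1)) K ⧸ Ideal.span {f}) (t : Fin (n + 1) → T),
      Pd q ∧ VanCyc.QuadOrd q ∧
      f - (VanCyc.quadPoly q : MvPolynomial (Fin (n + 1)) K) ∈ maximalIdeal (MvPowerSeries (Fin (n + 1)) K) ^ 3 ∧
      f ∈ maximalIdeal (MvPowerSeries (Fin (n + 1)) K) ^ 2 ∧
      (∀ j x, ε x ∈ ((maximalIdeal (MvPowerSeries (Fin (n + 1)) K)).map (Ideal.Quotient.mk (Ideal.span {f}))) ^ j ↔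
        x ∈ M ^ j) ∧
      ∀ i, ε (t i) - Ideal.Quotient.mk _ (X i) ∈
        ((maximalIdeal (MvPowerSeries (Fin (n + 1)) K)).map (Ideal.Quotient.mk (Ideal.span {f}))) ^ 2 := by
  obtain ⟨f₀, ⟨hlow, hnd⟩, ⟨e⟩⟩ := hs
  haveI : Algebra.EssFiniteType K (Localization.AtPrime M) := Algebra.EssFiniteType.comp K T _
  haveI : IsNoetherianRing (Localization.AtPrime M) := Algebra.EssFiniteType.isNoetherianRing K _
  obtain ⟨f, y, δ, hfq, hδy, hδ⟩ := Morse.exists_coords_of_equiv (Localization.AtPrime M) f₀ hlow e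
  let P := MvPowerSeries (Fin (n + 1)) K
  let mS : Ideal (P ⧸ Ideal.span {f}) := (maximalIdeal P).map (Ideal.Quotient.mk (Ideal.span {f}))
  have hord : VanCyc.QuadOrd (VanCyc.quadPart f₀) := hPd _ hnd
  have hQ2 : ((VanCyc.quadPoly (VanCyc.quadPart f₀) : MvPolynomial (Fin (n + 1)) K) : P) ∈ maximalIdeal P ^ 2 := by
    rw [QS97.coe_quadPoly]
    exact QS97.mem_pow_of_ordGE 2 fun d hd => QS97.coeff_quadEval_of_ne_two _ (by omega)
  have hf2 : f ∈ maximalIdeal P ^ 2 := by
    have := add_mem (Ideal.pow_le_pow_right (by norm_num) hfq) hQ2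
    rwa [sub_add_cancel] at this
  let ε : T →ₐ[K] P ⧸ Ideal.span {f} := δ.comp (IsScalarTower.toAlgHom K T (Localization.AtPrime M))
  have hε : ∀ j x, ε x ∈ mS ^ j ↔ x ∈ M ^ j := fun j x => by
    rw [show ε x = δ (algebraMap T (Localization.AtPrime M) x) from rfl, hδ,
      ← Localization.AtPrime.map_eq_maximalIdeal, ← Ideal.map_pow,
      IsLocalization.algebraMap_mem_map_algebraMap_iff M.primeCompl]
    refine ⟨fun ⟨s, hs, hsx⟩ => ?_, fun hx => ⟨1, M.primeCompl.one_mem, by rwa [one_mul]⟩⟩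
    have htop : Ideal.span {s} ⊔ M ^ j = ⊤ := Ideal.sup_pow_eq_top (by
      rw [sup_comm]
      exact (Ideal.isMaximal_def.1 ‹M.IsMaximal›).2 _ (lt_of_le_of_ne le_sup_left fun h => hs
        (h ▸ Ideal.mem_sup_right (Ideal.mem_span_singleton_self s))))
    obtain ⟨a, ha, b, hb, hab⟩ := Submodule.mem_sup.1 ((Ideal.eq_top_iff_one _).1 htop)
    obtain ⟨c, rfl⟩ := Ideal.mem_span_singleton'.1 ha
    rw [show x = c * (s * x) + b * x by linear_combination (-x) * hab]
    exact add_mem (Ideal.mul_mem_left _ _ hsx) (Ideal.mul_mem_right _ _ hb)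
  have ht : ∀ i, ∃ t : T, ε t - Ideal.Quotient.mk _ (X i) ∈ mS ^ 2 := fun i => by
    obtain ⟨a, s, has⟩ := IsLocalization.exists_mk'_eq M.primeCompl (y i)
    have htop : Ideal.span {(s : T)} ⊔ M ^ 2 = ⊤ := Ideal.sup_pow_eq_top (by
      rw [sup_comm]
      exact (Ideal.isMaximal_def.1 ‹M.IsMaximal›).2 _ (lt_of_le_of_ne le_sup_left fun h => s.2
        (h.ge (Ideal.mem_sup_right (Ideal.mem_span_singleton_self (s : T))))))
    obtain ⟨p, hp, b, hb, hab⟩ := Submodule.mem_sup.1 ((Ideal.eq_top_iff_one _).1 htop)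
    obtain ⟨c, rfl⟩ := Ideal.mem_span_singleton'.1 hp
    refine ⟨a * c, ?_⟩
    have h1 : ε a = ε (s : T) * Ideal.Quotient.mk _ (X i) := by
      rw [← hδy i]
      show δ (algebraMap T _ a) = δ (algebraMap T _ (s : T)) * δ (y i)
      rw [← map_mul, ← has, IsLocalization.mk'_spec']
    have h2 : ε (a * c) - Ideal.Quotient.mk _ (X i) = ε (-b) * Ideal.Quotient.mk _ (X i) := by
      rw [map_mul, h1, show (-b : T) = c * s - 1 by linear_combination -hab, map_sub, map_mul, map_one]
      ring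
    rw [h2]
    exact Ideal.mul_mem_right _ _ ((hε 2 _).2 (neg_mem hb))
  choose t ht using ht
  exact ⟨_, f, ε, t, hnd, hord, hfq, hf2, hε, ht⟩

/-- Non-degenerate forms are ordinary. -/
theorem quadOrd_of_nondeg {a : Fin n → Fin n → K} (hnd : VanCyc.QuadNondeg a) : VanCyc.QuadOrd a := fun v _ h2 => by
  by_contra hv
  exact (isUnit_iff_ne_zero.1 hnd) (Matrix.exists_mulVec_eq_zero_iff.1 ⟨v, hv, h2⟩)

/-- A chart at a non-degenerate maximal ideal. -/
theorem exists_chart (T : Type u) [CommRing T] [Algebra K T] [Algebra.EssFiniteType K T] (M : Ideal T)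
    [M.IsMaximal] (hs : VanCyc.IsNondegQuadSing K (Localization.AtPrime M) n) :
    ∃ (q : Fin (n + 1) → Fin (n + 1) → K) (f : MvPowerSeries (Fin (n + 1)) K)
      (ε : T →ₐ[K] MvPowerSeries (Fin (n + 1)) K ⧸ Ideal.span {f}) (t : Fin (n + 1) → T),
      VanCyc.QuadNondeg q ∧ VanCyc.QuadOrd q ∧
      f - (VanCyc.quadPoly q : MvPolynomial (Fin (n + 1)) K) ∈ maximalIdeal (MvPowerSeries (Fin (n + 1)) K) ^ 3 ∧
      f ∈ maximalIdeal (MvPowerSeries (Fin (n + 1)) K) ^ 2 ∧
      (∀ j x, ε x ∈ ((maximalIdeal (MvPowerSeries (Fin (n + 1)) K)).map (Ideal.Quotient.mk (Ideal.span {f}))) ^ j ↔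
        x ∈ M ^ j) ∧
      ∀ i, ε (t i) - Ideal.Quotient.mk _ (X i) ∈
        ((maximalIdeal (MvPowerSeries (Fin (n + 1)) K)).map (Ideal.Quotient.mk (Ideal.span {f}))) ^ 2 :=
  exists_chart' T M VanCyc.QuadNondeg (fun _ => quadOrd_of_nondeg) hs

end Groth.Agent.An92.MorseA
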