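import Groth.Agent.An92.MorseA.Rel

/-! The centre of a non-degenerate quadratic germ over a henselian base. -/

set_option autoImplicit false
set_option linter.style.haveILetI false

universe u

open IsLocalRing Matrix DualNumber TrivSqZeroExt

namespace Groth.Agent.An92.MorseA

/-- Functoriality of dual numbers. -/
def mapDual {R S : Type u} [CommRing R] [CommRing S] (f : R →+* S) : DualNumber R →+* DualNumber S where
  toFun z := inl (f z.fst) + inr (f z.snd)
  map_one' := TrivSqZeroExt.ext (by simp) (by simp)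
  map_mul' x y := TrivSqZeroExt.ext (by simp) (by simp [DualNumber.snd_mul])
  map_zero' := TrivSqZeroExt.ext (by simp) (by simp)
  map_add' x y := TrivSqZeroExt.ext (by simp) (by simp)

variable (A : Type u) [CommRing A] [HenselianLocalRing A] (N : ℕ)

local notation "k" => ResidueField A

/-- The closed fibre. -/
theorem exists_fibre : ∃ ρ : HA A N →+* Morse.HR k N, Function.Surjective ρ ∧ IsLocalHom ρ ∧
    RingHom.ker ρ = (maximalIdeal A).map (κ A N) ∧
    (∀ a, ρ (κ A N a) = Morse.ι k N (.C (residue A a))) ∧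
    ∀ i, ρ (xv A N i) = Morse.ι k N (.X i) := by
  let T := Morse.HR k N
  let c : A →+* T := ((Morse.ι k N).comp MvPolynomial.C).comp (residue A)
  haveI hcl : IsLocalHom c := ⟨fun a ha => by
    by_contra hn
    have h0 : residue A a = 0 := (residue_eq_zero_iff a).2 ((mem_maximalIdeal a).2 hn)
    simp [c, h0] at ha⟩
  have hxT : ∀ i, Morse.ι k N (.X i) ∈ maximalIdeal T := fun i =>
    Morse.maximalIdeal_eq k N ▸ Ideal.subset_span ⟨i, rfl⟩
  obtain ⟨ρ, hρl, hρC, hρX⟩ := exists_hom (A := A) (T := T) c _ hxT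
  let I : Ideal (HA A N) := (maximalIdeal A).map (κ A N)
  have hI : I ≤ maximalIdeal (HA A N) := Ideal.map_le_iff_le_comap.2 fun a ha => κ_mem A N ha
  have hIker : I ≤ RingHom.ker ρ := Ideal.map_le_iff_le_comap.2 fun a ha => by
    show ρ (κ A N a) = 0
    rw [hρC]
    simp [c, (residue_eq_zero_iff a).2 ha]
  let π := Ideal.Quotient.mk I
  haveI : Nontrivial (HA A N ⧸ I) := Ideal.Quotient.nontrivial_iff.2 fun h =>
    (maximalIdeal.isMaximal (HA A N)).ne_top (top_le_iff.1 (h ▸ hI))
  haveI : IsLocalRing (HA A N ⧸ I) := IsLocalRing.of_surjective' π Ideal.Quotient.mk_surjective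
  haveI : HenselianLocalRing (HA A N) := inferInstance
  haveI := EtAlg23.henselianLocalRing_of_surjective π Ideal.Quotient.mk_surjective
  haveI : IsLocalHom π := IsLocalHom.of_surjective _ Ideal.Quotient.mk_surjective
  let s : k →+* HA A N ⧸ I := Ideal.Quotient.lift (maximalIdeal A) (π.comp (κ A N))
    fun a ha => Ideal.Quotient.eq_zero_iff_mem.2 (Ideal.mem_map_of_mem _ ha)
  obtain ⟨σ, hσ, hσl⟩ := (Morse.existsUnique_hom k N (MvPolynomial.eval₂Hom s fun i => π (xv A N i))
    (fun i => by simpa using Morse.map_mem π (xv_mem A N i))).1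
  have hσC : ∀ a, σ (Morse.ι k N (.C (residue A a))) = π (κ A N a) := fun a => by
    rw [← RingHom.comp_apply, hσ, MvPolynomial.eval₂Hom_C]
    rfl
  have hσX : ∀ i, σ (Morse.ι k N (.X i)) = π (xv A N i) := fun i => by
    rw [← RingHom.comp_apply, hσ, MvPolynomial.eval₂Hom_X']
  have h1 : σ.comp ρ = π := hom_ext _ _ (fun a => (congrArg σ (hρC a)).trans (hσC a))
    fun i => (congrArg σ (hρX i)).trans (hσX i)
  let ρb : HA A N ⧸ I →+* T := Ideal.Quotient.lift I ρ fun x hx => hIker hx
  have h2 : ρb.comp σ = RingHom.id T := by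
    haveI : HenselianLocalRing T := inferInstance
    refine (Morse.existsUnique_hom k N (Morse.ι k N) hxT).2 _ _ ?_ (RingHom.id_comp _)
    refine MvPolynomial.ringHom_ext (fun a => ?_) fun i => ?_
    · obtain ⟨a, rfl⟩ := residue_surjective a
      exact (congrArg ρb (hσC a)).trans (hρC a)
    · exact (congrArg ρb (hσX i)).trans (hρX i)
  refine ⟨ρ, fun t => ?_, hρl, le_antisymm (fun x hx => ?_) hIker, hρC, hρX⟩
  · obtain ⟨x, hx⟩ := Ideal.Quotient.mk_surjective (σ t)
    exact ⟨x, (congrArg ρb hx).trans (RingHom.congr_fun h2 t)⟩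
  · exact Ideal.Quotient.eq_zero_iff_mem.1 ((RingHom.congr_fun h1 x).symm.trans
      ((congrArg σ hx).trans (map_zero σ)))

/-- Systems of coordinates give automorphisms. -/
theorem exists_bijective_endo (y : Fin N → HA A N) (hy : ∀ i, y i ∈ maximalIdeal (HA A N))
    (hgen : maximalIdeal (HA A N) ≤ (maximalIdeal A).map (κ A N) ⊔ Ideal.span (Set.range y)) :
    ∃ g : HA A N →+* HA A N, IsLocalHom g ∧ Function.Bijective g ∧
      (∀ a, g (κ A N a) = κ A N a) ∧ ∀ i, g (xv A N i) = y i := by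
  obtain ⟨g, hgl, hgs, hgC, hgX⟩ := exists_surjective_endo A N y hy hgen
  obtain ⟨ρ, hρs, hρl, hρk, hρC, hρX⟩ := exists_fibre A N
  let I : Ideal (HA A N) := (maximalIdeal A).map (κ A N)
  have hgI : I.map g = I := by
    rw [Ideal.map_map, show g.comp (κ A N) = κ A N from RingHom.ext hgC]
  let gb : Morse.HR k N →+* Morse.HR k N :=
    RingHom.liftOfSurjective ρ hρs ⟨ρ.comp g, fun x hx => by
      rw [RingHom.mem_ker, RingHom.comp_apply, ← RingHom.mem_ker, hρk]
      rw [hρk] at hx
      show g x ∈ I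
      exact hgI ▸ Ideal.mem_map_of_mem g hx⟩
  have hgb : ∀ x, gb (ρ x) = ρ (g x) := fun x => RingHom.liftOfRightInverse_comp_apply ρ _ _ _ x
  have hkerI : RingHom.ker g ≤ I := fun x hx => by
    show x ∈ (maximalIdeal A).map (κ A N)
    rw [← hρk, RingHom.mem_ker]
    refine Morse.injective_of_surjective gb (fun t => ?_) ?_
    · obtain ⟨t, rfl⟩ := hρs t
      obtain ⟨t, rfl⟩ := hgs t
      exact ⟨ρ t, hgb t⟩
    · rw [hgb, hx, map_zero, map_zero]
  choose z hz using fun i => hgs (xv A N i)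
  have hzm : ∀ i, z i ∈ maximalIdeal (HA A N) := fun i => (mem_maximalIdeal _).2 fun hu =>
    (mem_maximalIdeal _).1 (xv_mem A N i) (hz i ▸ hu.map g)
  have hzgen : maximalIdeal (HA A N) ≤ I ⊔ Ideal.span (Set.range z) := fun t ht => by
    have h1 : g t ∈ I ⊔ Ideal.span (Set.range (xv A N)) := maximalIdeal_eq A N ▸ Morse.map_mem g ht
    have h2 : I ⊔ Ideal.span (Set.range (xv A N)) = (I ⊔ Ideal.span (Set.range z)).map g := by
      rw [Ideal.map_sup, hgI, Ideal.map_span, ← Set.range_comp]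
      exact congrArg (fun w => I ⊔ Ideal.span (Set.range w)) (funext fun i => (hz i).symm)
    rw [h2] at h1
    obtain ⟨w, hw, hwt⟩ := (Ideal.mem_map_iff_of_surjective g hgs).1 h1
    have h3 : t - w ∈ I ⊔ Ideal.span (Set.range z) :=
      Ideal.mem_sup_left (hkerI (by rw [RingHom.mem_ker, map_sub, hwt, sub_self]))
    simpa using add_mem h3 hw
  obtain ⟨χ, hχl, hχs, hχC, hχX⟩ := exists_surjective_endo A N z hzm hzgen
  have hgχ : g.comp χ = RingHom.id _ :=
    hom_ext _ _ (fun a => (congrArg g (hχC a)).trans (hgC a)) fun i => (congrArg g (hχX i)).trans (hz i)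
  refine ⟨g, hgl, ⟨fun a b hab => ?_, hgs⟩, hgC, hgX⟩
  obtain ⟨a, rfl⟩ := hχs a
  obtain ⟨b, rfl⟩ := hχs b
  exact congrArg χ ((RingHom.congr_fun hgχ a).symm.trans (hab.trans (RingHom.congr_fun hgχ b)))

/-- Derivatives lower the order by one. -/
theorem snd_mem_pow {R : Type u} [CommRing R] (D : R →+* DualNumber R) (hD : ∀ r, (D r).fst = r)
    (m : Ideal R) : ∀ (n : ℕ) {a : R}, a ∈ m ^ (n + 1) → (D a).snd ∈ m ^ n := by
  intro n
  induction n with
  | zero => intro a _; simp
  | succ n ih =>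
    intro a ha
    rw [pow_succ'] at ha
    refine Submodule.mul_induction_on ha (fun b hb c hc => ?_) fun b c hb hc => ?_
    · rw [map_mul, DualNumber.snd_mul, hD, hD]
      exact add_mem (by rw [pow_succ']; exact Ideal.mul_mem_mul hb (ih hc)) (Ideal.mul_mem_left _ _ hc)
    · rw [map_add, TrivSqZeroExt.snd_add]
      exact add_mem hb hc

/-- A table whose form has order three has coefficients in the maximal ideal. -/
theorem mem_of_quadEval_mem {K : Type u} [Field K] {n : ℕ} (r : Fin n → Fin n → Morse.HR K n)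
    (h : VanCyc.quadEval r (fun i => Morse.ι K n (.X i)) ∈ maximalIdeal (Morse.HR K n) ^ 3)
    {i j : Fin n} (hij : i ≤ j) : r i j ∈ maximalIdeal (Morse.HR K n) := by
  choose c hc using fun a b => Morse.exists_const K n (r a b)
  let R := Morse.HR K n
  have hx : ∀ a, Morse.ι K n (.X a) ∈ maximalIdeal R := fun a =>
    Morse.maximalIdeal_eq K n ▸ Ideal.subset_span ⟨a, rfl⟩
  have h2 : Morse.ι K n (VanCyc.quadPoly c) ∈ maximalIdeal R ^ 3 := by
    have hd : VanCyc.quadEval r (fun a => Morse.ι K n (.X a)) - Morse.ι K n (VanCyc.quadPoly c) ∈ maximalIdeal R ^ 3 := by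
      rw [QS97.quadPoly_eq_quadEval, QS97.map_quadEval]
      simp only [VanCyc.quadEval, ← Finset.sum_sub_distrib]
      refine sum_mem fun a _ => sum_mem fun b _ => ?_
      split
      · rw [← sub_mul, ← sub_mul, pow_succ, pow_two]
        exact Ideal.mul_mem_mul (Ideal.mul_mem_mul (hc a b) (hx a)) (hx b)
      · simp
    simpa using sub_mem h hd
  obtain ⟨ρ, hρ, hρm, -⟩ := Morse.exists_toPS K n
  have h3 := (hρm 3 _).2 h2
  rw [hρ, QS97.coe_quadPoly] at h3
  have h4 := QS97.ordGE_of_mem_pow 3 h3 (QS97.pairExp i j) (by simp [QS97.pairExp, map_add])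
  rw [QS97.coeff_quadEval_pairExp _ hij] at h4
  simpa [h4] using hc i j

theorem isLocalHom_inl (S : Type u) [CommRing S] : IsLocalHom (algebraMap S (DualNumber S)) :=
  ⟨fun a ha => by
    have h := isUnit_iff_isUnit_fst.1 ha
    rwa [TrivSqZeroExt.algebraMap_eq_inl, fst_inl] at h⟩

theorem isLocalHom_κ : IsLocalHom (κ A N) := ⟨fun a ha => by
  by_contra hn
  exact (mem_maximalIdeal _).1 (κ_mem A N ((mem_maximalIdeal a).2 hn)) ha⟩

/-- The partial derivatives as maps to dual numbers. -/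
theorem exists_deriv (i : Fin N) : ∃ D : HA A N →+* DualNumber (HA A N), IsLocalHom D ∧
    (∀ r, (D r).fst = r) ∧ (∀ a, D (κ A N a) = inl (κ A N a)) ∧
    ∀ j, D (xv A N j) = inl (xv A N j) + if j = i then DualNumber.eps else 0 := by
  haveI : HenselianLocalRing (HA A N) := inferInstance
  haveI := isLocalHom_κ A N
  haveI := isLocalHom_inl (HA A N)
  haveI : IsLocalHom ((algebraMap (HA A N) (DualNumber (HA A N))).comp (κ A N)) := RingHom.isLocalHom_comp _ _
  obtain ⟨D, hl, hC, hX⟩ := exists_hom (N := N) ((algebraMap (HA A N) (DualNumber (HA A N))).comp (κ A N))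
    (fun j => inl (xv A N j) + if j = i then DualNumber.eps else 0)
    (fun j => mem_maximalIdeal_dualNumber _ |>.2 (by
      rw [fst_add, fst_inl]
      split <;> simp only [fst_eps, fst_zero, add_zero] <;> exact xv_mem A N j))
  refine ⟨D, hl, ?_, fun a => (hC a).trans (by rw [RingHom.comp_apply, algebraMap_eq_inl]), hX⟩
  have h := hom_ext ((TrivSqZeroExt.fstHom (HA A N) (HA A N) (HA A N)).toRingHom.comp D) (RingHom.id (HA A N))
    (fun a => show (D (κ A N a)).fst = κ A N a by rw [hC, RingHom.comp_apply, algebraMap_eq_inl, fst_inl])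
    (fun j => show (D (xv A N j)).fst = xv A N j by
      rw [hX, fst_add, fst_inl]
      split <;> simp only [fst_eps, fst_zero, add_zero])
  exact fun r => RingHom.congr_fun h r

theorem snd_mem_scalar (D : HA A N →+* DualNumber (HA A N)) (hfst : ∀ r, (D r).fst = r)
    (hC : ∀ a, D (κ A N a) = inl (κ A N a)) {r : HA A N} (hr : r ∈ (maximalIdeal A).map (κ A N)) :
    (D r).snd ∈ (maximalIdeal A).map (κ A N) := by
  refine Submodule.span_induction (fun y hy => ?_) ?_ (fun a b _ _ ha hb => ?_) (fun c b hb hb' => ?_) hr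
  · obtain ⟨a, -, rfl⟩ := hy
    rw [hC, snd_inl]
    exact zero_mem _
  · simp
  · rw [map_add, TrivSqZeroExt.snd_add]; exact add_mem ha hb
  · rw [smul_eq_mul, map_mul, DualNumber.snd_mul, hfst, hfst]
    exact add_mem (Ideal.mul_mem_left _ _ hb') (Ideal.mul_mem_left _ _ hb)

/-- The derivative of a quadratic form. -/
theorem snd_deriv_quad (q : Fin N → Fin N → A) (i : Fin N) (D : HA A N →+* DualNumber (HA A N))
    (hC : ∀ a, D (κ A N a) = inl (κ A N a))
    (hX : ∀ j, D (xv A N j) = inl (xv A N j) + if j = i then DualNumber.eps else 0) :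
    (D (VanCyc.quadEval (fun a b => κ A N (q a b)) (xv A N))).snd =
      (((VanCyc.polarMatrix q).map (κ A N)) *ᵥ xv A N) i := by
  classical
  let e : Fin N → DualNumber (HA A N) := fun j => if j = i then DualNumber.eps else 0
  let u : Fin N → DualNumber (HA A N) := fun j => inl (xv A N j)
  let c : Fin N → Fin N → DualNumber (HA A N) := fun a b => inl (κ A N (q a b))
  have h1 : D (VanCyc.quadEval (fun a b => κ A N (q a b)) (xv A N)) = VanCyc.quadEval c (u + e) := by
    rw [QS97.map_quadEval]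
    simp only [hC, hX]
    rfl
  have h0 : VanCyc.quadEval c e = 0 := by
    refine Finset.sum_eq_zero fun a _ => Finset.sum_eq_zero fun b _ => ?_
    simp only [e]
    split_ifs <;> simp [mul_assoc, DualNumber.eps_mul_eps]
  have h2 : (VanCyc.quadEval c u).snd = 0 := by
    have := (QS97.map_quadEval (algebraMap (HA A N) (DualNumber (HA A N))) (fun a b => κ A N (q a b)) (xv A N)).symm
    rw [algebraMap_eq_inl] at this
    rw [show VanCyc.quadEval c u = inl _ from this, snd_inl]
  have hP : ∀ a b, VanCyc.polarMatrix c a b = inl (((VanCyc.polarMatrix q).map (κ A N)) a b) := fun a b => by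
    have := congrFun (congrFun (QS97.polarMatrix_map
      ((algebraMap (HA A N) (DualNumber (HA A N))).comp (κ A N)) q) a) b
    simp only [RingHom.comp_apply, algebraMap_eq_inl, Matrix.map_apply] at this ⊢
    exact this
  rw [h1, QS97.quadEval_add, h0, TrivSqZeroExt.snd_add, TrivSqZeroExt.snd_add, h2, snd_zero, zero_add,
    zero_add, TrivSqZeroExt.snd_sum, Finset.sum_eq_single i]
  · simp only [e, if_pos rfl, DualNumber.snd_mul, snd_eps, fst_eps, zero_mul, zero_add, one_mul,
      TrivSqZeroExt.fst_sum, if_true]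
    refine Finset.sum_congr rfl fun j _ => ?_
    rw [TrivSqZeroExt.fst_mul, hP, fst_inl, fst_inl]
  · intro j _ hj
    simp [e, hj]
  · simp

variable {A N} in
/-- Derivatives of a non-degenerate germ form a system of coordinates. -/
theorem gen_of_congr (q : Fin N → Fin N → A) (hq : VanCyc.QuadNondeg q) (G : Fin N → HA A N)
    (hG : ∀ i, G i - (((VanCyc.polarMatrix q).map (κ A N)) *ᵥ xv A N) i ∈
      (maximalIdeal A).map (κ A N) ⊔ maximalIdeal (HA A N) ^ 2) :
    maximalIdeal (HA A N) ≤ (maximalIdeal A).map (κ A N) ⊔ Ideal.span (Set.range G) := by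
  let I : Ideal (HA A N) := (maximalIdeal A).map (κ A N)
  let M : Ideal (HA A N) := maximalIdeal (HA A N)
  let P : Matrix (Fin N) (Fin N) (HA A N) := (VanCyc.polarMatrix q).map (κ A N)
  let X : Ideal (HA A N) := Ideal.span (Set.range (xv A N))
  let J : Ideal (HA A N) := I ⊔ Ideal.span (Set.range G)
  have hMX : M = I ⊔ X := maximalIdeal_eq A N
  suffices X ≤ J from hMX.le.trans (sup_le le_sup_left this)
  have hfg : Submodule.FG X := Submodule.fg_span (Set.finite_range (xv A N))
  suffices hle : X ≤ J ⊔ M • X from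
    Submodule.le_of_le_smul_of_le_jacobson_bot (I := M) hfg (maximalIdeal_le_jacobson ⊥) hle
  refine Ideal.span_le.2 ?_
  have hsq : I ⊔ M ^ 2 ≤ J ⊔ M • X := by
    refine sup_le (le_sup_left.trans le_sup_left) ?_
    calc M ^ 2 = M * (I ⊔ X) := by rw [← hMX, pow_two]
      _ = M * I ⊔ M * X := Ideal.mul_sup _ _ _
      _ ≤ J ⊔ M • X := by
        rw [smul_eq_mul]
        have h1 : M * I ≤ I := Ideal.mul_le_right
        exact sup_le_sup (h1.trans le_sup_left) le_rfl
  have hdet : IsUnit P.det := by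
    have := hq.map (κ A N)
    rwa [RingHom.map_det] at this
  rintro _ ⟨a, rfl⟩
  have hx : xv A N a = ∑ b, P⁻¹ a b * (P *ᵥ xv A N) b := by
    show _ = (P⁻¹ *ᵥ (P *ᵥ xv A N)) a
    rw [Matrix.mulVec_mulVec, Matrix.nonsing_inv_mul _ hdet, Matrix.one_mulVec]
  rw [hx]
  refine sum_mem fun b _ => Ideal.mul_mem_left (J ⊔ M • X) (P⁻¹ a b) ?_
  have h1 : G b ∈ J ⊔ M • X := Ideal.mem_sup_left (Ideal.mem_sup_right (Ideal.subset_span (Set.mem_range_self b)))
  have := sub_mem h1 (hsq (hG b))
  rwa [sub_sub_cancel] at this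

/-- The point where the coordinates vanish. -/
theorem exists_point (G : Fin N → HA A N) (hGm : ∀ i, G i ∈ maximalIdeal (HA A N))
    (hgen : maximalIdeal (HA A N) ≤ (maximalIdeal A).map (κ A N) ⊔ Ideal.span (Set.range G)) :
    ∃ e : HA A N →+* A, IsLocalHom e ∧ (∀ a, e (κ A N a) = a) ∧ ∀ i, e (G i) = 0 := by
  obtain ⟨ψ, hψl, hψ, hψC, hψX⟩ := exists_bijective_endo A N G hGm hgen
  obtain ⟨e0, he0l, he0C, he0X⟩ := exists_eval A N 0 fun _ => zero_mem _
  let ψe := RingEquiv.ofBijective ψ hψ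
  haveI : IsLocalHom ψe.symm.toRingHom := ⟨fun a ha => by
    have h : IsUnit (ψe (ψe.symm a)) := ha.map ψe
    rwa [ψe.apply_symm_apply] at h⟩
  refine ⟨e0.comp ψe.symm.toRingHom, RingHom.isLocalHom_comp _ _, fun a => ?_, fun i => ?_⟩
  · show e0 (ψe.symm (κ A N a)) = a
    rw [show κ A N a = ψe (κ A N a) from (hψC a).symm, RingEquiv.symm_apply_apply, he0C]
  · show e0 (ψe.symm (G i)) = 0
    rw [show G i = ψe (xv A N i) from (hψX i).symm, RingEquiv.symm_apply_apply, he0X]
    rfl

/-- Translations. -/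
theorem exists_translate (v : Fin N → A) (hv : ∀ i, v i ∈ maximalIdeal A) :
    ∃ θ : HA A N →+* HA A N, IsLocalHom θ ∧ Function.Bijective θ ∧ (∀ a, θ (κ A N a) = κ A N a) ∧
      ∀ i, θ (xv A N i) = xv A N i + κ A N (v i) := by
  refine exists_bijective_endo A N _ (fun i => add_mem (xv_mem A N i) (κ_mem A N (hv i))) ?_
  refine le_of_eq_of_le (maximalIdeal_eq A N) (sup_le le_sup_left (Ideal.span_le.2 ?_))
  rintro _ ⟨i, rfl⟩
  have h1 : xv A N i + κ A N (v i) ∈
      (maximalIdeal A).map (κ A N) ⊔ Ideal.span (Set.range fun j => xv A N j + κ A N (v j)) :=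
    Ideal.mem_sup_right (Ideal.subset_span (Set.mem_range_self i))
  have := sub_mem h1 (Ideal.mem_sup_left (Ideal.mem_map_of_mem (κ A N) (hv i)))
  rwa [add_sub_cancel_right] at this

/-- The linear term at a critical point vanishes. -/
theorem expansion_at_critical (F : HA A N) (e' : HA A N →+* A) [IsLocalHom e'] (he'C : ∀ a, e' (κ A N a) = a)
    (D : Fin N → (HA A N →+* DualNumber (HA A N))) [∀ i, IsLocalHom (D i)]
    (hfst : ∀ i r, (D i r).fst = r) (hDC : ∀ i a, D i (κ A N a) = inl (κ A N a))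
    (hDX : ∀ i j, D i (xv A N j) = inl (xv A N j) + if j = i then DualNumber.eps else 0)
    (hcrit : ∀ i, e' (D i F).snd = 0)
    (θ : HA A N →+* HA A N) (hθC : ∀ a, θ (κ A N a) = κ A N a)
    (hθX : ∀ j, θ (xv A N j) = xv A N j + κ A N (e' (xv A N j))) :
    ∃ W : Matrix (Fin N) (Fin N) (HA A N), θ F = κ A N (e' F) + xv A N ⬝ᵥ (W *ᵥ xv A N) := by
  classical
  obtain ⟨e0, he0l, he0C, he0X⟩ := exists_eval A N 0 fun _ => zero_mem _
  obtain ⟨a, r, har⟩ := exists_expand A N (θ F)
  choose a' W hW using fun i => exists_expand A N (r i)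
  have he0θ : e0.comp θ = e' := hom_ext _ _ (fun c => by rw [RingHom.comp_apply, hθC, he0C, he'C])
    fun i => by rw [RingHom.comp_apply, hθX, map_add, he0X, he0C, Pi.zero_apply, zero_add]
  have ha : a = e' F := by
    have h0 : ∑ i, e0 (xv A N i * r i) = 0 :=
      Finset.sum_eq_zero fun i _ => by rw [map_mul, he0X, Pi.zero_apply, zero_mul]
    rw [← he0θ, RingHom.comp_apply, har, map_add, he0C, map_sum, h0, add_zero]
  haveI := isLocalHom_inl A
  have hE := fun i : Fin N => exists_hom (N := N) (algebraMap A (DualNumber A))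
    (fun j => if j = i then DualNumber.eps else 0)
    (fun j => mem_maximalIdeal_dualNumber A |>.2 (by
      split <;> simp only [fst_eps, fst_zero] <;> exact zero_mem _))
  choose E hEl hEC hEX using hE
  have ha' : ∀ i, a' i = 0 := fun i => by
    haveI : IsLocalHom ((mapDual e').comp (D i)) := ⟨fun z hz => by
      have h := isUnit_iff_isUnit_fst.1 hz
      have h' : IsUnit (e' z) := by simpa [mapDual, hfst] using h
      exact isUnit_of_map_unit e' _ h'⟩
    have key : (E i).comp θ = (mapDual e').comp (D i) := by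
      refine hom_ext _ _ (fun c => ?_) fun j => ?_
      · rw [RingHom.comp_apply, RingHom.comp_apply, hθC, hEC, hDC, algebraMap_eq_inl]
        refine TrivSqZeroExt.ext ?_ ?_ <;> simp [mapDual, he'C]
      · rw [RingHom.comp_apply, RingHom.comp_apply, hθX, map_add, hEX, hEC, hDX, algebraMap_eq_inl]
        refine TrivSqZeroExt.ext ?_ ?_ <;> split <;> simp [mapDual]
    have h1 := congrArg TrivSqZeroExt.snd (RingHom.congr_fun key F)
    have h2 : ((mapDual e') (D i F)).snd = 0 := by simpa [mapDual] using hcrit i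
    rw [RingHom.comp_apply, har, RingHom.comp_apply, h2, map_add, map_sum, TrivSqZeroExt.snd_add,
      TrivSqZeroExt.snd_sum, hEC, algebraMap_eq_inl, snd_inl, zero_add, Finset.sum_eq_single i] at h1
    · rw [map_mul, hEX, if_pos rfl, DualNumber.snd_mul, fst_eps, snd_eps, zero_mul, zero_add, one_mul,
        hW i, map_add, TrivSqZeroExt.fst_add, hEC, algebraMap_eq_inl, fst_inl, map_sum,
        TrivSqZeroExt.fst_sum] at h1
      have h3 : ∑ l, (E i (xv A N l * W i l)).fst = 0 := Finset.sum_eq_zero fun l _ => by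
        rw [map_mul, hEX]
        split <;> simp
      rwa [h3, add_zero] at h1
    · intro j _ hj
      rw [map_mul, hEX, if_neg hj, zero_mul, snd_zero]
    · simp
  refine ⟨Matrix.of W, ?_⟩
  rw [har, ha]
  congr 1
  refine Finset.sum_congr rfl fun i _ => ?_
  rw [hW i, ha' i, map_zero, zero_add]
  show _ = xv A N i * ∑ j, W i j * xv A N j
  exact congrArg _ (Finset.sum_congr rfl fun j _ => mul_comm _ _)

/-- The critical value, modulo an ideal. -/
theorem critical_value (q : Fin N → Fin N → A) (hq : VanCyc.QuadNondeg q) (F : HA A N) (e' : HA A N →+* A)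
    [IsLocalHom e'] (he'C : ∀ c, e' (κ A N c) = c) (D : Fin N → (HA A N →+* DualNumber (HA A N)))
    (hfst : ∀ i r, (D i r).fst = r) (hDC : ∀ i a, D i (κ A N a) = inl (κ A N a))
    (hDX : ∀ i j, D i (xv A N j) = inl (xv A N j) + if j = i then DualNumber.eps else 0)
    (he'G : ∀ i, e' (D i F).snd = 0) (a : Ideal A) (s : A)
    (h : F - VanCyc.quadEval (fun i j => κ A N (q i j)) (xv A N) - κ A N s ∈
      a.map (κ A N) ⊔ maximalIdeal (HA A N) ^ 3) :
    e' F - s ∈ a ⊔ maximalIdeal A ^ 3 := by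
  classical
  let Qx := VanCyc.quadEval (fun i j => κ A N (q i j)) (xv A N)
  have he'a : (a.map (κ A N)).map e' = a := by
    rw [Ideal.map_map, show e'.comp (κ A N) = RingHom.id A from RingHom.ext he'C, Ideal.map_id]
  have he'M : ∀ (m : ℕ), (maximalIdeal (HA A N) ^ m).map e' ≤ maximalIdeal A ^ m := fun m => by
    rw [Ideal.map_pow]
    exact Ideal.pow_right_mono (((local_hom_TFAE e').out 0 2).mp ‹_›) m
  have he' : ∀ (m : ℕ) {z : HA A N}, z ∈ a.map (κ A N) ⊔ maximalIdeal (HA A N) ^ m →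
      e' z ∈ a ⊔ maximalIdeal A ^ m := fun m {z} hz => by
    have := Ideal.mem_map_of_mem e' hz
    rw [Ideal.map_sup, he'a] at this
    exact sup_le_sup_left (he'M m) a this
  have hDa : ∀ i {z : HA A N}, z ∈ a.map (κ A N) → (D i z).snd ∈ a.map (κ A N) := fun i {z} hz => by
    refine Submodule.span_induction (fun y hy => ?_) ?_ (fun b c _ _ hb hc => ?_) (fun c b hb hb' => ?_) hz
    · obtain ⟨c, -, rfl⟩ := hy
      rw [hDC, snd_inl]
      exact zero_mem _
    · simp
    · rw [map_add, TrivSqZeroExt.snd_add]; exact add_mem hb hc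
    · rw [smul_eq_mul, map_mul, DualNumber.snd_mul, hfst, hfst]
      exact add_mem (Ideal.mul_mem_left _ _ hb') (Ideal.mul_mem_left _ _ hb)
  obtain ⟨α, hα, β, hβ, hαβ⟩ := Submodule.mem_sup.1 h
  have hF' : F = Qx + κ A N s + (α + β) := by rw [hαβ]; ring
  let w : Fin N → A := fun i => e' (xv A N i)
  have hw : ∀ i, w i ∈ a ⊔ maximalIdeal A ^ 2 := by
    have hPw : ∀ i, (VanCyc.polarMatrix q *ᵥ w) i ∈ a ⊔ maximalIdeal A ^ 2 := fun i => by
      have h1 : (D i F).snd - (((VanCyc.polarMatrix q).map (κ A N)) *ᵥ xv A N) i ∈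
          a.map (κ A N) ⊔ maximalIdeal (HA A N) ^ 2 := by
        rw [hF', map_add, map_add, map_add, TrivSqZeroExt.snd_add, TrivSqZeroExt.snd_add, TrivSqZeroExt.snd_add,
          hDC, snd_inl, add_zero, snd_deriv_quad A N q i (D i) (hDC i) (hDX i), add_sub_cancel_left]
        exact add_mem (Ideal.mem_sup_left (hDa i hα))
          (Ideal.mem_sup_right (snd_mem_pow (D i) (hfst i) (maximalIdeal (HA A N)) 2 hβ))
      have h2 := he' 2 h1
      rw [map_sub, he'G, zero_sub, neg_mem_iff, RingHom.map_mulVec, Matrix.map_map,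
        show ⇑e' ∘ ⇑(κ A N) = id from funext he'C, Matrix.map_id] at h2
      exact h2
    intro i
    have h3 : w = (VanCyc.polarMatrix q)⁻¹ *ᵥ (VanCyc.polarMatrix q *ᵥ w) := by
      rw [Matrix.mulVec_mulVec, Matrix.nonsing_inv_mul _ hq, Matrix.one_mulVec]
    rw [h3]
    show ∑ j, (VanCyc.polarMatrix q)⁻¹ i j * (VanCyc.polarMatrix q *ᵥ w) j ∈ _
    exact sum_mem fun j _ => Ideal.mul_mem_left (a ⊔ maximalIdeal A ^ 2) _ (hPw j)
  have hQ : e' Qx ∈ a ⊔ maximalIdeal A ^ 3 := by
    rw [show e' Qx = VanCyc.quadEval q w by simp only [Qx, QS97.map_quadEval, he'C]; rfl]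
    refine sum_mem fun i _ => sum_mem fun j _ => ?_
    split
    · rw [mul_assoc]
      refine Ideal.mul_mem_left _ _ ?_
      have hw2 : w i * w j ∈ (a ⊔ maximalIdeal A ^ 2) * maximalIdeal A :=
        Ideal.mul_mem_mul (hw i) (Morse.map_mem e' (xv_mem A N j))
      rw [Ideal.sup_mul, ← pow_succ] at hw2
      have hle : a * maximalIdeal A ⊔ maximalIdeal A ^ (2 + 1) ≤ a ⊔ maximalIdeal A ^ 3 :=
        sup_le_sup_right Ideal.mul_le_left _
      exact hle hw2
    · exact zero_mem _
  rw [show e' F - s = e' Qx + e' (α + β) by rw [hF', map_add, map_add, he'C]; ring]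
  exact add_mem hQ (he' 3 (Submodule.add_mem_sup hα hβ))

/-- Centring. -/
theorem exists_center' (q : Fin N → Fin N → A) (hq : VanCyc.QuadNondeg q) (F : HA A N)
    (hF : F - VanCyc.quadEval (fun i j => κ A N (q i j)) (xv A N) ∈
      (maximalIdeal A).map (κ A N) ⊔ maximalIdeal (HA A N) ^ 3) :
    ∃ (θ : HA A N →+* HA A N) (b : A) (W : Matrix (Fin N) (Fin N) (HA A N)),
      Function.Bijective θ ∧ (∀ a, θ (κ A N a) = κ A N a) ∧ b ∈ maximalIdeal A ∧
      θ F = κ A N b + xv A N ⬝ᵥ (W *ᵥ xv A N) ∧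
      (∀ i j, i ≤ j → Morse.symT W i j - κ A N (q i j) ∈ maximalIdeal (HA A N)) ∧
      ∀ (a : Ideal A) (s : A), F - VanCyc.quadEval (fun i j => κ A N (q i j)) (xv A N) - κ A N s ∈
        a.map (κ A N) ⊔ maximalIdeal (HA A N) ^ 3 → b - s ∈ a ⊔ maximalIdeal A ^ 3 := by
  classical
  let M : Ideal (HA A N) := maximalIdeal (HA A N)
  have hI : (maximalIdeal A).map (κ A N) ≤ M := Ideal.map_le_iff_le_comap.2 fun a ha => κ_mem A N ha
  choose D hDl hfst hDC hDX using exists_deriv A N
  have hG : ∀ i, (D i F).snd - (((VanCyc.polarMatrix q).map (κ A N)) *ᵥ xv A N) i ∈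
      (maximalIdeal A).map (κ A N) ⊔ M ^ 2 := fun i => by
    obtain ⟨a, ha, b, hb, hab⟩ := Submodule.mem_sup.1 hF
    have : F = VanCyc.quadEval (fun a b => κ A N (q a b)) (xv A N) + (a + b) := by rw [hab]; ring
    rw [this, map_add, TrivSqZeroExt.snd_add, snd_deriv_quad A N q i (D i) (hDC i) (hDX i),
      add_sub_cancel_left, map_add, TrivSqZeroExt.snd_add]
    exact add_mem (Ideal.mem_sup_left (snd_mem_scalar A N (D i) (hfst i) (hDC i) ha))
      (Ideal.mem_sup_right (snd_mem_pow (D i) (hfst i) M 2 hb))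
  have hGm : ∀ i, (D i F).snd ∈ M := fun i => by
    have h1 := (sup_le hI (Ideal.pow_le_self two_ne_zero)) (hG i)
    have h2 : (((VanCyc.polarMatrix q).map (κ A N)) *ᵥ xv A N) i ∈ M := by
      show ∑ j, ((VanCyc.polarMatrix q).map (κ A N)) i j * xv A N j ∈ M
      exact sum_mem fun j _ => M.mul_mem_left _ (xv_mem A N j)
    simpa using add_mem h1 h2
  obtain ⟨e', he'l, he'C, he'G⟩ := exists_point A N _ hGm (gen_of_congr q hq _ hG)
  have hv : ∀ i, e' (xv A N i) ∈ maximalIdeal A := fun i => Morse.map_mem e' (xv_mem A N i)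
  obtain ⟨θ, hθl, hθ, hθC, hθX⟩ := exists_translate A N _ hv
  haveI := hDl
  obtain ⟨W, hθF⟩ := expansion_at_critical A N F e' he'C D hfst hDC hDX he'G θ hθC hθX
  have hFM : F ∈ M := by
    have h1 : VanCyc.quadEval (fun i j => κ A N (q i j)) (xv A N) ∈ M := by
      refine sum_mem fun i _ => sum_mem fun j _ => ?_
      split
      · exact M.mul_mem_left _ (xv_mem A N j)
      · exact zero_mem _
    simpa using add_mem ((sup_le hI (Ideal.pow_le_self three_ne_zero)) hF) h1
  have haM : e' F ∈ maximalIdeal A := Morse.map_mem e' hFM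
  refine ⟨θ, e' F, W, hθ, hθC, haM, hθF, fun i j hij => ?_,
    critical_value A N q hq F e' he'C D hfst hDC hDX he'G⟩
  obtain ⟨ρ, hρs, hρl, hρk, hρC, hρX⟩ := exists_fibre A N
  have hρθ : ρ.comp θ = ρ := hom_ext _ _ (fun c => by rw [RingHom.comp_apply, hθC]) fun l => by
    rw [RingHom.comp_apply, hθX, map_add]
    have h0 : ρ (κ A N (e' (xv A N l))) = 0 := by
      rw [← RingHom.mem_ker, hρk]; exact Ideal.mem_map_of_mem _ (hv l)
    rw [h0, add_zero]
  have h3 : VanCyc.quadEval (fun x y => ρ (Morse.symT W x y) - ρ (κ A N (q x y)))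
      (fun l => Morse.ι k N (.X l)) ∈ maximalIdeal (Morse.HR k N) ^ 3 := by
    have e1 : VanCyc.quadEval (fun x y => ρ (Morse.symT W x y) - ρ (κ A N (q x y)))
        (fun l => Morse.ι k N (.X l)) =
        ρ (VanCyc.quadEval (Morse.symT W) (xv A N)) -
          ρ (VanCyc.quadEval (fun x y => κ A N (q x y)) (xv A N)) := by
      rw [QS97.map_quadEval, QS97.map_quadEval]
      simp only [hρX, VanCyc.quadEval, ← Finset.sum_sub_distrib]
      refine Finset.sum_congr rfl fun x _ => Finset.sum_congr rfl fun y _ => ?_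
      split <;> ring
    have h0 : ρ (κ A N (e' F)) = 0 := by rw [← RingHom.mem_ker, hρk]; exact Ideal.mem_map_of_mem _ haM
    have e2 : ρ (θ F) = ρ F := RingHom.congr_fun hρθ F
    rw [hθF, map_add, h0, zero_add] at e2
    rw [e1, Morse.quadEval_symT, e2, ← map_sub]
    have := Ideal.mem_map_of_mem ρ hF
    rw [Ideal.map_sup, Ideal.map_pow, (Ideal.map_eq_bot_iff_le_ker ρ).2 hρk.ge, bot_sup_eq] at this
    exact Ideal.pow_right_mono (((local_hom_TFAE ρ).out 0 2).mp hρl) 3 this
  have h4 := mem_of_quadEval_mem _ h3 hij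
  rw [← map_sub] at h4
  exact (mem_maximalIdeal _).2 fun hu => (mem_maximalIdeal _).1 h4 (hu.map ρ)

/-- The centre of a non-degenerate quadratic germ. -/
theorem exists_center (q : Fin N → Fin N → A) (hq : VanCyc.QuadNondeg q) (F : HA A N)
    (hF : F - VanCyc.quadEval (fun i j => κ A N (q i j)) (xv A N) ∈
      (maximalIdeal A).map (κ A N) ⊔ maximalIdeal (HA A N) ^ 3) :
    ∃ (θ : HA A N →+* HA A N) (b : A) (W : Matrix (Fin N) (Fin N) (HA A N)),
      Function.Bijective θ ∧ (∀ a, θ (κ A N a) = κ A N a) ∧ b ∈ maximalIdeal A ∧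
      θ F = κ A N b + xv A N ⬝ᵥ (W *ᵥ xv A N) ∧
      ∀ i j, i ≤ j → Morse.symT W i j - κ A N (q i j) ∈ maximalIdeal (HA A N) := by
  obtain ⟨θ, b, W, h1, h2, h3, h4, h5, -⟩ := exists_center' A N q hq F hF
  exact ⟨θ, b, W, h1, h2, h3, h4, h5⟩

end Groth.Agent.An92.MorseA
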