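import Groth.Agent.Henz21.FiniteLocal
import Mathlib.Algebra.DualNumber
import Mathlib.RingTheory.Finiteness.Prod

/-! Dual numbers over a henselian local ring. -/

set_option autoImplicit false

universe u

open IsLocalRing DualNumber TrivSqZeroExt

namespace Groth.Agent.An92.MorseA

variable (R : Type u) [CommRing R]

theorem finite_dualNumber : Module.Finite R (DualNumber R) := by
  let f : R × R →ₗ[R] DualNumber R :=
    { toFun := fun p => inl p.1 + inr p.2
      map_add' := fun p q => TrivSqZeroExt.ext (by simp) (by simp)
      map_smul' := fun c p => TrivSqZeroExt.ext (by simp) (by simp) }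
  exact Module.Finite.of_surjective f fun z => ⟨(z.fst, z.snd), inl_fst_add_inr_snd_eq z⟩

instance isLocalRing_dualNumber [IsLocalRing R] : IsLocalRing (DualNumber R) :=
  IsLocalRing.of_nonunits_add fun a b ha hb => by
    rw [mem_nonunits_iff, isUnit_iff_isUnit_fst] at *
    rw [fst_add]
    exact IsLocalRing.nonunits_add ha hb

instance henselianLocalRing_dualNumber [HenselianLocalRing R] : HenselianLocalRing (DualNumber R) :=
  haveI := finite_dualNumber R
  haveI : Algebra.IsIntegral R (DualNumber R) := Algebra.IsIntegral.of_finite R _
  Henz21.henselianLocalRing_of_isIntegral (A := R)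

theorem mem_maximalIdeal_dualNumber [IsLocalRing R] {z : DualNumber R} :
    z ∈ maximalIdeal (DualNumber R) ↔ z.fst ∈ maximalIdeal R := by
  rw [mem_maximalIdeal, mem_maximalIdeal, mem_nonunits_iff, mem_nonunits_iff, isUnit_iff_isUnit_fst]

end Groth.Agent.An92.MorseA
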