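import Groth.Agent.An92.MorseA.Rational
import Groth.Agent.An92.MorseA.Center
import Groth.Agent.An92.Morse.Kernel

/-! Non-degenerate quadratic points over an arbitrary field. -/

set_option autoImplicit false
set_option linter.style.haveILetI false

universe u

open IsLocalRing Matrix MvPowerSeries
open scoped TensorProduct

namespace Groth.Agent.An92.MorseA

variable {k : Type u} [Field k] {N : ℕ}

/-- An automorphism tangent to the identity fixes the quadratic part. -/
theorem map_sub_mem_cube {K : Type u} [Field K] {n : ℕ}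
    (φ : MvPowerSeries (Fin n) K ≃ₐ[K] MvPowerSeries (Fin n) K)
    (hφ : ∀ i, φ (X i) - X i ∈ maximalIdeal (MvPowerSeries (Fin n) K) ^ 2)
    {f : MvPowerSeries (Fin n) K} (hf : f ∈ maximalIdeal (MvPowerSeries (Fin n) K) ^ 2) :
    φ f - f ∈ maximalIdeal (MvPowerSeries (Fin n) K) ^ 3 := by
  let M : Ideal (MvPowerSeries (Fin n) K) := maximalIdeal _
  have hM : ∀ {x}, x ∈ M → φ x ∈ M := fun {x} hx =>
    (map_ringEquiv_maximalIdeal φ.toRingEquiv).le (Ideal.mem_map_of_mem _ hx)
  have hc1 : ∀ c, φ c - c ∈ M := fun c => by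
    have h1 : c - C (constantCoeff c) ∈ M := CAlg6.mem_maximalIdeal_iff.2 (by simp)
    have h2 := hM h1
    rw [map_sub, show φ (C (constantCoeff c)) = C (constantCoeff c) from φ.commutes _] at h2
    simpa using M.sub_mem h2 h1
  obtain ⟨c, hc⟩ := Morse.exists_quad_expansion hf
  rw [hc, map_sum, ← Finset.sum_sub_distrib]
  refine Ideal.sum_mem _ fun i _ => ?_
  rw [map_sum, ← Finset.sum_sub_distrib]
  refine Ideal.sum_mem _ fun j _ => ?_
  have hXM : ∀ l, (X l : MvPowerSeries (Fin n) K) ∈ M := fun l =>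
    CAlg6.mem_maximalIdeal_iff.2 (constantCoeff_X l)
  rw [map_mul, map_mul, show φ (c i j) * (φ (X i) * φ (X j)) - c i j * (X i * X j) =
    (φ (c i j) - c i j) * (φ (X i) * φ (X j)) + c i j * ((φ (X i) - X i) * φ (X j)) +
      c i j * ((φ (X j) - X j) * X i) by ring]
  refine add_mem (add_mem ?_ ?_) ?_
  · rw [pow_succ', pow_two]; exact Ideal.mul_mem_mul (hc1 _) (Ideal.mul_mem_mul (hM (hXM i)) (hM (hXM j)))
  · exact Ideal.mul_mem_left _ _ (by rw [pow_succ]; exact Ideal.mul_mem_mul (hφ i) (hM (hXM j)))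
  · exact Ideal.mul_mem_left _ _ (by rw [pow_succ]; exact Ideal.mul_mem_mul (hφ j) (hXM i))

/-- Linear substitutions. -/
theorem exists_linSubst {K : Type u} [Field K] {n : ℕ} (L : Matrix (Fin n) (Fin n) K) (hL : IsUnit L.det) :
    ∃ s s' : MvPowerSeries (Fin n) K →ₐ[K] MvPowerSeries (Fin n) K,
      (∀ a, s' (s a) = a) ∧ (∀ i, s (X i) = ∑ l, C (L i l) * X l) ∧
      (∀ {m : ℕ} {a}, a ∈ maximalIdeal (MvPowerSeries (Fin n) K) ^ m → s a ∈ maximalIdeal (MvPowerSeries (Fin n) K) ^ m) ∧
      ∀ {m : ℕ} {a}, a ∈ maximalIdeal (MvPowerSeries (Fin n) K) ^ m → s' a ∈ maximalIdeal (MvPowerSeries (Fin n) K) ^ m := by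
  let lin : Matrix (Fin n) (Fin n) K → Fin n → MvPowerSeries (Fin n) K := fun A i => ∑ l, C (A i l) * X l
  have h0 : ∀ A, HasSubst (lin A) := fun A => hasSubst_of_constantCoeff_zero fun i => by simp [lin]
  have hpow : ∀ A {m : ℕ} {a}, a ∈ maximalIdeal (MvPowerSeries (Fin n) K) ^ m →
      substAlgHom (R := K) (h0 A) a ∈ maximalIdeal (MvPowerSeries (Fin n) K) ^ m := fun A {m} {a} ha => by
    have h := Ideal.mem_map_of_mem (substAlgHom (R := K) (h0 A)).toRingHom ha
    rw [Ideal.map_pow] at h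
    refine Ideal.pow_right_mono ?_ m h
    rw [CAlg6.maximalIdeal_eq_span_X, Ideal.map_span, Ideal.span_le, ← CAlg6.maximalIdeal_eq_span_X]
    rintro _ ⟨_, ⟨i, rfl⟩, rfl⟩
    refine CAlg6.mem_maximalIdeal_iff.2 ?_
    show constantCoeff (substAlgHom (R := K) (h0 A) (X i)) = 0
    rw [substAlgHom_apply, subst_X (h0 A)]
    simp [lin]
  refine ⟨substAlgHom (h0 L), substAlgHom (h0 L⁻¹), fun a => ?_, fun i => by rw [substAlgHom_apply, subst_X (h0 L)],
    fun ha => hpow L ha, fun ha => hpow L⁻¹ ha⟩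
  rw [substAlgHom_apply, substAlgHom_apply, subst_comp_subst_apply (h0 L) (h0 L⁻¹)]
  have hX : (fun s => subst (lin L⁻¹) (lin L s)) = (X : Fin n → MvPowerSeries (Fin n) K) := funext fun i => by
    rw [← substAlgHom_apply (h0 L⁻¹)]
    simp only [lin, map_sum, map_mul, substAlgHom_X]
    have hC : ∀ c : K, substAlgHom (R := K) (h0 L⁻¹) (C c) = C c := fun c => (substAlgHom (R := K) (h0 L⁻¹)).commutes c
    simp only [hC, Finset.mul_sum]
    rw [Finset.sum_comm]
    have e : ∀ m, ∑ l, C (L i l) * (C (L⁻¹ l m) * X m) = C ((L * L⁻¹) i m) * X m := fun m => by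
      rw [Matrix.mul_apply, map_sum, Finset.sum_mul]
      exact Finset.sum_congr rfl fun l _ => by rw [map_mul]; ring
    rw [Finset.sum_congr rfl fun m _ => e m, Matrix.mul_nonsing_inv _ hL, Finset.sum_eq_single i]
    · simp
    · intro m _ hm; simp [Matrix.one_apply_ne hm.symm]
    · simp
  rw [hX, subst_self, id]

set_option maxHeartbeats 1000000 in
/-- The equation of a quadratic point over a field. -/
theorem exists_field_hypersurface' (K : Type u) [Field K] [Algebra k K] {O Oh : Type u} [CommRing O]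
    [IsLocalRing O] [Algebra k O] [Algebra.EssFiniteType k O] [CommRing Oh] [IsLocalRing Oh] [Algebra O Oh]
    [IsLocalHom (algebraMap O Oh)] [hO : Hensel.IsHenselization O Oh] {n : ℕ}
    (hres : ∀ x : O, ∃ c : k, x - algebraMap k O c ∈ maximalIdeal O)
    (Pd : (Fin (n + 1) → Fin (n + 1) → K) → Prop) (hPd : ∀ a, Pd a → VanCyc.QuadOrd a)
    (hq : ∀ (M : Ideal (K ⊗[k] O)) [M.IsMaximal],
      ∃ f : MvPowerSeries (Fin (n + 1)) K, (VanCyc.NoLowTerms f ∧ Pd (VanCyc.quadPart f)) ∧
        Nonempty (AdicCompletion (maximalIdeal (Localization.AtPrime M)) (Localization.AtPrime M) ≃ₐ[K]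
          (MvPowerSeries (Fin (n + 1)) K ⧸ Ideal.span {f}))) :
    ∃ (q : Fin (n + 1) → Fin (n + 1) → k) (y : Fin (n + 1) → O),
      (∃ (q' : Fin (n + 1) → Fin (n + 1) → K) (L : Matrix (Fin (n + 1)) (Fin (n + 1)) K) (v₀ : K),
        Pd q' ∧ v₀ ≠ 0 ∧ IsUnit L.det ∧
        (∀ x, VanCyc.quadEval (fun i j => algebraMap k K (q i j)) (L *ᵥ x) = v₀ * VanCyc.quadEval q' x) ∧
        Lᵀ * VanCyc.polarMatrix (fun i j => algebraMap k K (q i j)) * L = v₀ • VanCyc.polarMatrix q') ∧
      Ideal.span (Set.range y) = maximalIdeal O ∧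
      ∀ (g : Morse.HR k (n + 1) →+* Oh), IsLocalHom g → Function.Surjective g →
        (∀ p, g (Morse.ι k (n + 1) p) = algebraMap O Oh (MvPolynomial.aeval y p)) →
        ∃ F, RingHom.ker g = Ideal.span {F} ∧
          F - Morse.ι k (n + 1) (VanCyc.quadPoly q) ∈ maximalIdeal (Morse.HR k (n + 1)) ^ 3 := by
  classical
  haveI : IsNoetherianRing O := Algebra.EssFiniteType.isNoetherianRing k O
  choose res hres using hres
  have hres' : ∀ x c, x - algebraMap k O c ∈ maximalIdeal O → res x = c := fun x c h => by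
    by_contra hne
    have h1 := sub_mem h (hres x)
    rw [sub_sub_sub_cancel_left, ← map_sub] at h1
    exact (mem_maximalIdeal _).1 h1 ((isUnit_iff_ne_zero.2 (sub_ne_zero.2 hne)).map _)
  let resA : O →ₐ[k] k :=
    { toFun := res
      map_one' := hres' _ _ (by simp)
      map_mul' := fun a b => hres' _ _ (by
        rw [map_mul, show a * b - algebraMap k O (res a) * algebraMap k O (res b) =
          a * (b - algebraMap k O (res b)) + algebraMap k O (res b) * (a - algebraMap k O (res a)) by ring]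
        exact add_mem (Ideal.mul_mem_left _ _ (hres b)) (Ideal.mul_mem_left _ _ (hres a)))
      map_zero' := hres' _ _ (by simp)
      map_add' := fun a b => hres' _ _ (by rw [map_add, add_sub_add_comm]; exact add_mem (hres a) (hres b))
      commutes' := fun c => hres' _ _ (by simp) }
  let σ : K ⊗[k] O →ₐ[K] K :=
    Algebra.TensorProduct.lift (Algebra.ofId K K) ((Algebra.ofId k K).comp resA) fun _ _ => Commute.all _ _
  have hσ : Function.Surjective σ := fun c => ⟨c ⊗ₜ 1, by simp [σ]⟩
  have hσt : ∀ c o, σ (c ⊗ₜ o) = c * algebraMap k K (res o) := fun c o => by simp [σ, resA]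
  let M : Ideal (K ⊗[k] O) := RingHom.ker σ.toRingHom
  haveI : M.IsMaximal := RingHom.ker_isMaximal_of_surjective _ hσ
  obtain ⟨q', f, ε, t, hnd, hord, hfq, hf2, hε, ht⟩ := exists_chart' (K ⊗[k] O) M Pd hPd (hq M)
  let P := MvPowerSeries (Fin (n + 1)) K
  let MS : Ideal P := maximalIdeal P
  let inc : O →ₐ[k] K ⊗[k] O := Algebra.TensorProduct.includeRight
  let mT : Ideal (K ⊗[k] O) := (maximalIdeal O).map inc.toRingHom
  have hMmT : M ≤ mT := fun x hx => by
    have h : ∀ z : K ⊗[k] O, z - algebraMap K _ (σ z) ∈ mT := fun z => by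
      induction z using TensorProduct.induction_on with
      | zero => simp
      | add a b ha hb => rw [map_add, map_add, add_sub_add_comm]; exact add_mem ha hb
      | tmul c o =>
        have e : (c ⊗ₜ[k] o : K ⊗[k] O) - algebraMap K _ (σ (c ⊗ₜ o)) =
            algebraMap K _ c * inc (o - algebraMap k O (res o)) := by
          rw [hσt, map_mul, map_sub, mul_sub, AlgHom.commutes, ← IsScalarTower.algebraMap_apply k K]
          congr 1
          simp [inc, Algebra.TensorProduct.algebraMap_apply]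
        rw [e]
        exact Ideal.mul_mem_left _ _ (Ideal.mem_map_of_mem _ (hres o))
    have h2 := h x
    rwa [show σ x = 0 from hx, map_zero, sub_zero] at h2
  have hmTM : mT ≤ M := Ideal.map_le_iff_le_comap.2 fun o ho => by
    show σ ((1 : K) ⊗ₜ o) = 0
    rw [hσt, hres' o 0 (by simpa using ho), map_zero, mul_zero]
  -- retraction
  obtain ⟨r, hr⟩ := (Algebra.linearMap k K).exists_leftInverse_of_injective
    (LinearMap.ker_eq_bot.2 (algebraMap k K).injective)
  have hr1 : ∀ c : k, r (algebraMap k K c) = c := fun c => LinearMap.congr_fun hr c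
  let Rr : K ⊗[k] O →ₗ[k] O := TensorProduct.lift ((LinearMap.lsmul k O).comp r)
  have hRr : ∀ c o, Rr (c ⊗ₜ o) = r c • o := fun c o => rfl
  have hRrmul : ∀ z o, Rr (z * inc o) = Rr z * o := fun z o => by
    induction z using TensorProduct.induction_on with
    | zero => simp
    | add a b ha hb => simp [add_mul, ha, hb]
    | tmul c o' => simp [inc, hRr, smul_mul_assoc]
  have hRrpow : ∀ (j : ℕ) x, x ∈ M ^ j → Rr x ∈ maximalIdeal O ^ j := fun j x hx => by
    have hx' : x ∈ ((maximalIdeal O) ^ j).map inc.toRingHom := by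
      rw [Ideal.map_pow]; exact Ideal.pow_right_mono hMmT j hx
    have gen : ∀ z, ∀ w ∈ ((maximalIdeal O) ^ j).map inc.toRingHom, Rr (z * w) ∈ maximalIdeal O ^ j := by
      intro z w hw
      refine Submodule.span_induction (p := fun w _ => ∀ z, Rr (z * w) ∈ maximalIdeal O ^ j)
        (fun y hy => ?_) (fun z => by simp) (fun a b _ _ ha hb z => by rw [mul_add, map_add]; exact add_mem (ha z) (hb z))
        (fun c b _ hb z => by rw [smul_eq_mul, ← mul_assoc]; exact hb _) hw z
      obtain ⟨o, ho, rfl⟩ := hy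
      intro z
      show Rr (z * inc o) ∈ _
      rw [hRrmul]
      exact Ideal.mul_mem_left _ _ ho
    simpa using gen 1 x hx'
  have hMpow : ∀ (j : ℕ) o, inc o ∈ M ^ j ↔ o ∈ maximalIdeal O ^ j := fun j o => by
    refine ⟨fun h => ?_, fun h => Ideal.pow_right_mono hmTM j ?_⟩
    · have h2 := hRrpow j _ h
      rwa [show inc o = 1 * inc o from (one_mul _).symm, hRrmul, show (1 : K ⊗[k] O) = 1 ⊗ₜ 1 from rfl, hRr,
        show r 1 = 1 by simpa using hr1 1, one_smul, one_mul] at h2
    · rw [← Ideal.map_pow]; exact Ideal.mem_map_of_mem inc.toRingHom h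
  -- linear coefficients
  let lift : K ⊗[k] O → P := fun x => (Ideal.Quotient.mk_surjective (ε x)).choose
  have hlift : ∀ x, Ideal.Quotient.mk _ (lift x) = ε x := fun x => (Ideal.Quotient.mk_surjective (ε x)).choose_spec
  have hspan : Ideal.span {f} ≤ MS ^ 2 := (Ideal.span_singleton_le_iff_mem _).2 hf2
  have hL : ∀ x a, Ideal.Quotient.mk _ a = ε x → lc (lift x) = lc a := fun x a ha => by
    have := lc_of_mem_sq (hspan (Ideal.Quotient.eq.1 ((hlift x).trans ha.symm)))
    rwa [lc_sub, sub_eq_zero] at this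
  have hcc : ∀ x ∈ M, constantCoeff (lift x) = 0 := fun x hx => by
    have h2 := (hε 1 x).2 (by rwa [pow_one])
    rw [pow_one, ← hlift x] at h2
    obtain ⟨b, hb, hb'⟩ := (Ideal.mem_map_iff_of_surjective _ Ideal.Quotient.mk_surjective).1 h2
    have h3 : lift x - b ∈ MS := Ideal.pow_le_self two_ne_zero (hspan (Ideal.Quotient.eq.1 hb'.symm))
    have h4 := add_mem h3 hb
    rw [sub_add_cancel] at h4
    exact CAlg6.mem_maximalIdeal_iff.1 h4
  have hmulL : ∀ a b, b ∈ M → lc (lift (a * b)) = constantCoeff (lift a) • lc (lift b) := fun a b hb => by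
    rw [hL (a * b) (lift a * lift b) (by rw [map_mul, hlift, hlift, map_mul]), lc_mul, hcc b hb, zero_smul, add_zero]
  have haddL : ∀ a b, lc (lift (a + b)) = lc (lift a) + lc (lift b) := fun a b => by
    rw [hL (a + b) (lift a + lift b) (by rw [map_add, hlift, hlift, map_add]), lc_add]
  let Z : Set (Fin (n + 1) → K) := (fun o => lc (lift (inc o))) '' (maximalIdeal O : Set O)
  have hZ : Submodule.span K Z = ⊤ := by
    have hgen : ∀ z, ∀ w ∈ mT, lc (lift (z * w)) ∈ Submodule.span K Z := by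
      intro z w hw
      refine Submodule.span_induction (p := fun w _ => ∀ z, lc (lift (z * w)) ∈ Submodule.span K Z)
        (fun y hy => ?_) (fun z => ?_) (fun a b _ _ ha hb z => by rw [mul_add, haddL]; exact add_mem (ha z) (hb z))
        (fun c b _ hb z => by rw [smul_eq_mul, ← mul_assoc]; exact hb _) hw z
      · obtain ⟨o, ho, rfl⟩ := hy
        intro z
        rw [hmulL _ _ (hmTM (Ideal.mem_map_of_mem _ ho))]
        exact Submodule.smul_mem _ _ (Submodule.subset_span ⟨o, ho, rfl⟩)
      · rw [hL (z * 0) 0 (by simp), lc_of_mem_sq (zero_mem _)]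
        exact zero_mem _
    refine top_le_iff.1 fun v _ => ?_
    rw [pi_eq_sum_univ' v]
    refine sum_mem fun i _ => Submodule.smul_mem _ _ ?_
    have h1 : lc (lift (t i)) = Pi.single i 1 := by
      have h2 := ht i
      rw [← Ideal.map_pow] at h2
      obtain ⟨b, hb, hb'⟩ := (Ideal.mem_map_iff_of_surjective _ Ideal.Quotient.mk_surjective).1 h2
      rw [hL (t i) (X i + b) (by rw [map_add, hb', add_sub_cancel]), lc_add, lc_of_mem_sq hb, add_zero, lc_X]
    have htM : t i ∈ M := by
      rw [← pow_one M, ← hε, pow_one]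
      have h3 : Ideal.Quotient.mk (Ideal.span {f}) (X i : P) ∈ MS.map (Ideal.Quotient.mk (Ideal.span {f})) :=
        Ideal.mem_map_of_mem _ (CAlg6.mem_maximalIdeal_iff.2 (constantCoeff_X i))
      simpa using add_mem (Ideal.pow_le_self two_ne_zero (ht i)) h3
    have := hgen 1 (t i) (hMmT htM)
    rw [one_mul, h1] at this
    exact this
  obtain ⟨B, hBZ, hBspan, hBli⟩ := exists_linearIndependent K Z
  let basis : Module.Basis B K (Fin (n + 1) → K) := Module.Basis.mk hBli (by rw [Subtype.range_coe, hBspan, hZ])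
  let eB : Fin (n + 1) ≃ B := (Pi.basisFun K (Fin (n + 1))).indexEquiv basis
  choose y hym hyL using fun i => hBZ (eB i).2
  let L : Matrix (Fin (n + 1)) (Fin (n + 1)) K := Matrix.of fun i => lc (lift (inc (y i)))
  have hLdet : IsUnit L.det := by
    rw [← Matrix.isUnit_iff_isUnit_det, ← Matrix.linearIndependent_rows_iff_isUnit]
    have h := hBli.comp eB eB.injective
    show LinearIndependent K (fun i => lc (lift (inc (y i))))
    rw [funext hyL]
    exact h
  let a : Fin (n + 1) → P := fun i => lift (inc (y i))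
  have ha0 : ∀ i, constantCoeff (a i) = 0 := fun i => hcc _ (hmTM (Ideal.mem_map_of_mem _ (hym i)))
  let b : Fin (n + 1) → P := fun i => ∑ l, C (L⁻¹ i l) * a l
  have hb : ∀ i, b i - X i ∈ MS ^ 2 := fun i => by
    have h0 : constantCoeff (b i - X i) = 0 := by simp [b, ha0]
    have h1 : lc (b i - X i) = 0 := by
      show lc ((∑ l, C (L⁻¹ i l) * a l) - X i) = 0
      rw [lc_sub, lc_sum, lc_X, Finset.sum_congr rfl fun l _ => lc_C_mul (L⁻¹ i l) (a l)]
      funext m
      rw [Pi.sub_apply, Finset.sum_apply]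
      simp only [Pi.smul_apply, smul_eq_mul]
      show (L⁻¹ * L) i m - _ = 0
      rw [Matrix.nonsing_inv_mul _ hLdet]
      by_cases h : i = m
      · subst h; simp
      · simp [Matrix.one_apply_ne h, Pi.single_apply, Ne.symm h]
    have h2 := sub_lin_mem h0
    simpa [h1] using h2
  obtain ⟨φ, hφ⟩ := MvInv51.exists_algEquiv b (fun _ => 1) fun i => by simpa using Morse.pow_le_J (hb i)
  have hφX : ∀ i, φ (b i) = X i := fun i => by
    have := hφ (X i)
    rwa [subst_X] at this
    exact MvInv51.hasSubst_of_mem_J_one fun j => Morse.pow_le_J (by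
      rw [pow_one]
      exact CAlg6.mem_maximalIdeal_iff.2 (by simp [b, ha0]))
  have hmemφ : ∀ {m : ℕ} {x : P}, x ∈ MS ^ m → φ x ∈ MS ^ m := fun {m x} hx => by
    have := Ideal.mem_map_of_mem φ.toRingEquiv.toRingHom hx
    rw [Ideal.map_pow] at this
    exact Ideal.pow_right_mono (map_ringEquiv_maximalIdeal φ.toRingEquiv).le m this
  have hφ2 : ∀ i, φ (X i) - X i ∈ MS ^ 2 := fun i => by
    have := hmemφ (hb i)
    rw [map_sub, hφX] at this
    simpa using neg_mem this
  have hφa : ∀ i, φ (a i) = ∑ l, C (L i l) * X l := fun i => by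
    have hab : a i = ∑ l, C (L i l) * b l := by
      simp only [b, Finset.mul_sum]
      rw [Finset.sum_comm]
      have e : ∀ m, ∑ l, C (L i l) * (C (L⁻¹ l m) * a m) = C ((L * L⁻¹) i m) * a m := fun m => by
        rw [Matrix.mul_apply, map_sum, Finset.sum_mul]
        exact Finset.sum_congr rfl fun l _ => by rw [map_mul]; ring
      rw [Finset.sum_congr rfl fun m _ => e m, Matrix.mul_nonsing_inv _ hLdet, Finset.sum_eq_single i]
      · simp
      · intro m _ hm; simp [Matrix.one_apply_ne hm.symm]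
      · simp
    rw [hab, map_sum]
    exact Finset.sum_congr rfl fun l _ => by
      rw [map_mul, hφX, show φ (C (L i l)) = C (L i l) from φ.commutes _]
  let f1 : P := φ f
  have hf13 : f1 - (VanCyc.quadPoly q' : MvPolynomial (Fin (n + 1)) K) ∈ MS ^ 3 := by
    simpa [f1] using add_mem (map_sub_mem_cube φ hφ2 hf2) hfq
  have hf12 : f1 ∈ MS ^ 2 := hmemφ hf2
  let Φ : (P ⧸ Ideal.span {f}) ≃ₐ[K] (P ⧸ Ideal.span {f1}) :=
    Ideal.quotientEquivAlg _ _ φ (by rw [Ideal.map_span, Set.image_singleton]; rfl)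
  let π := Ideal.Quotient.mk (Ideal.span {f1})
  let δ : O →+* P ⧸ Ideal.span {f1} :=
    (Φ : (P ⧸ Ideal.span {f}) ≃ₐ[K] _).toRingEquiv.toRingHom.comp (ε.toRingHom.comp inc.toRingHom)
  have hδy : ∀ i, δ (y i) = π (∑ l, C (L i l) * X l) := fun i => by
    show Φ (ε (inc (y i))) = _
    rw [← hlift, ← hφa i]
    rfl
  let mS : Ideal (P ⧸ Ideal.span {f}) := MS.map (Ideal.Quotient.mk (Ideal.span {f}))
  have hΦm : mS.map Φ.toRingEquiv.toRingHom = MS.map π := by
    have hM : MS.map φ.toRingEquiv.toRingHom = MS := map_ringEquiv_maximalIdeal φ.toRingEquiv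
    conv_rhs => rw [← hM]
    rw [Ideal.map_map, Ideal.map_map]
    rfl
  have hδm : ∀ (j : ℕ) o, δ o ∈ (MS.map π) ^ j ↔ o ∈ maximalIdeal O ^ j := fun j o => by
    rw [← hMpow, ← hε, ← hΦm, ← Ideal.map_pow]
    refine ⟨fun h => ?_, fun h => Ideal.mem_map_of_mem _ h⟩
    obtain ⟨z, hz, hze⟩ := (Ideal.mem_map_iff_of_surjective _ Φ.surjective).1 h
    exact (Φ.injective hze) ▸ hz
  have hδC : ∀ c : k, δ (algebraMap k O c) = π (C (algebraMap k K c)) := fun c => by
    show Φ (ε (inc (algebraMap k O c))) = _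
    rw [AlgHom.commutes, IsScalarTower.algebraMap_apply k K, AlgHom.commutes, AlgEquiv.commutes,
      ← Ideal.Quotient.mk_algebraMap]
    rfl
  have hy : Ideal.span (Set.range y) = maximalIdeal O := by
    refine le_antisymm (Ideal.span_le.2 (Set.range_subset_iff.2 hym))
      (Submodule.le_of_le_smul_of_le_jacobson_bot (IsNoetherian.noetherian _)
        (maximalIdeal_le_jacobson ⊥) fun z hz => ?_)
    let lam : Fin (n + 1) → K := lc (lift (inc z))
    let c : Fin (n + 1) → K := lam ᵥ* L⁻¹
    have hc : ∀ m, ∑ i, c i * L i m = lam m := fun m => by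
      show (c ᵥ* L) m = lam m
      rw [Matrix.vecMul_vecMul, Matrix.nonsing_inv_mul _ hLdet, Matrix.vecMul_one]
    let w : K ⊗[k] O := inc z - ∑ i, algebraMap K _ (c i) * inc (y i)
    have hwM : w ∈ M := sub_mem (hmTM (Ideal.mem_map_of_mem _ hz))
      (sum_mem fun i _ => Ideal.mul_mem_left _ _ (hmTM (Ideal.mem_map_of_mem _ (hym i))))
    have hw2 : w ∈ M ^ 2 := by
      have hw : Ideal.Quotient.mk _ (lift (inc z) - ∑ i, C (c i) * a i) = ε w := by
        rw [map_sub, hlift, map_sum]
        simp only [w, map_sub, map_sum, map_mul, AlgHom.commutes, a, hlift]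
        rfl
      have h1 : lift (inc z) - ∑ i, C (c i) * a i ∈ MS ^ 2 := by
        have h0 : constantCoeff (lift (inc z) - ∑ i, C (c i) * a i) = 0 := by
          rw [map_sub, hcc _ (show inc z ∈ M from hmTM (Ideal.mem_map_of_mem _ hz))]
          simp [ha0]
        have hl : lc (lift (inc z) - ∑ i, C (c i) * a i) = 0 := by
          rw [lc_sub, lc_sum, Finset.sum_congr rfl fun i _ => lc_C_mul (c i) (a i)]
          funext m
          rw [Pi.sub_apply, Finset.sum_apply]
          simp only [Pi.smul_apply, smul_eq_mul]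
          show lam m - ∑ i, c i * L i m = 0
          rw [hc, sub_self]
        simpa [hl] using sub_lin_mem h0
      rw [← hε, ← hw, ← Ideal.map_pow]
      exact Ideal.mem_map_of_mem _ h1
    have h3 := hRrpow 2 w hw2
    simp only [w, map_sub, map_sum, hRrmul] at h3
    have e1 : ∀ o, Rr (inc o) = o := fun o => by
      show Rr ((1 : K) ⊗ₜ o) = o
      rw [hRr, show r 1 = 1 by simpa using hr1 1, one_smul]
    have e2 : ∀ i, Rr (algebraMap K (K ⊗[k] O) (c i)) = r (c i) • 1 := fun i => by
      rw [Algebra.TensorProduct.algebraMap_apply]; exact hRr _ _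
    simp only [e1, e2, smul_mul_assoc, one_mul] at h3
    rw [show z = (∑ i, r (c i) • y i) + (z - ∑ i, r (c i) • y i) by ring]
    refine Submodule.add_mem_sup (sum_mem fun i _ => ?_) (by rw [smul_eq_mul, ← pow_two]; exact h3)
    rw [Algebra.smul_def]
    exact Ideal.mul_mem_left _ _ (Ideal.subset_span (Set.mem_range_self i))
  -- the quadratic relation over `k`
  let U' : Matrix (Fin (n + 1)) (Fin (n + 1)) K := QS97.upper q'
  let c₀ : Fin (n + 1) → Fin (n + 1) → K := Morse.symT ((L⁻¹)ᵀ * U' * L⁻¹)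
  let xP : Fin (n + 1) → P := fun i => X i
  let aP : Fin (n + 1) → P := fun i => ∑ l, C (L i l) * X l
  have hQc : VanCyc.quadEval (fun i j => C (c₀ i j)) aP =
      ((VanCyc.quadPoly q' : MvPolynomial (Fin (n + 1)) K) : MvPowerSeries (Fin (n + 1)) K) := by
    have h1 : (fun i j => C (c₀ i j)) = Morse.symT (((L⁻¹).map (C : K →+* P))ᵀ *
        QS97.upper (fun i j => C (q' i j)) * (L⁻¹).map (C : K →+* P)) := by
      have hU : QS97.upper (fun i j => (C (q' i j) : P)) = U'.map (C : K →+* P) := by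
        ext i j : 1
        simp only [U', QS97.upper, Matrix.map_apply]
        split <;> simp
      rw [hU]
      funext i j
      simp only [c₀, Morse.symT_map, Matrix.map_mul, Matrix.transpose_map]
    rw [h1, ← Morse.quadEval_mulVec, QS97.coe_quadPoly]
    congr 1
    show (L⁻¹).map (C : K →+* P) *ᵥ ((L.map (C : K →+* P)) *ᵥ xP) = X
    rw [Matrix.mulVec_mulVec, ← Matrix.map_mul, Matrix.nonsing_inv_mul _ hLdet, Matrix.map_one _ (map_zero _) (map_one _),
      Matrix.one_mulVec]
  obtain ⟨i₀, j₀, hij₀, hne⟩ : ∃ i j, i ≤ j ∧ c₀ i j ≠ 0 := by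
    by_contra h
    push Not at h
    refine Morse.quadPoly_notMem q' hord ?_
    rw [← hQc]
    refine sum_mem fun i _ => sum_mem fun j _ => ?_
    split
    · next hij => simp [h i j hij]
    · exact zero_mem _
  let c₁ : Fin (n + 1) → Fin (n + 1) → K := fun i j => (c₀ i₀ j₀)⁻¹ * c₀ i j
  let q : Fin (n + 1) → Fin (n + 1) → k := fun i j => r (c₁ i j)
  have hQy : MvPolynomial.aeval y (VanCyc.quadPoly q) ∈ maximalIdeal O ^ 3 := by
    let zT : K ⊗[k] O := VanCyc.quadEval (fun i j => algebraMap K _ (c₁ i j)) (fun i => inc (y i))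
    have h1 : zT ∈ M ^ 3 := by
      rw [← hε]
      have h2 : Φ (ε zT) = π (C (c₀ i₀ j₀)⁻¹ * ((VanCyc.quadPoly q' : MvPolynomial (Fin (n + 1)) K) : MvPowerSeries (Fin (n + 1)) K)) := by
        rw [← hQc, map_mul, QS97.map_quadEval π, QS97.map_quadEval ε, QS97.map_quadEval Φ]
        simp only [AlgHom.commutes, AlgEquiv.commutes, VanCyc.quadEval, Finset.mul_sum]
        refine Finset.sum_congr rfl fun i _ => Finset.sum_congr rfl fun j _ => ?_
        split
        · rw [show Φ (ε (inc (y i))) = π (aP i) from hδy i, show Φ (ε (inc (y j))) = π (aP j) from hδy j,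
            show Φ (algebraMap K _ (c₁ i j)) = π (C (c₁ i j)) from Φ.commutes _]
          simp only [c₁, map_mul]
          ring
        · rw [mul_zero]
      have h3 : Φ (ε zT) ∈ ((MS ^ 3)).map π := by
        rw [h2]
        have h4 := Ideal.mem_map_of_mem π (neg_mem hf13)
        rw [neg_sub, map_sub, Ideal.Quotient.eq_zero_iff_mem.2 (Ideal.mem_span_singleton_self f1), sub_zero] at h4
        rw [map_mul]
        exact Ideal.mul_mem_left _ _ h4
      rw [Ideal.map_pow, ← hΦm, ← Ideal.map_pow] at h3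
      obtain ⟨z, hz, hze⟩ := (Ideal.mem_map_iff_of_surjective _ Φ.surjective).1 h3
      exact (Φ.injective hze) ▸ hz
    have h5 := hRrpow 3 zT h1
    convert h5 using 1
    rw [QS97.quadPoly_eq_quadEval, QS97.map_quadEval]
    simp only [MvPolynomial.aeval_C, MvPolynomial.aeval_X, zT, VanCyc.quadEval, map_sum]
    refine Finset.sum_congr rfl fun i _ => Finset.sum_congr rfl fun j _ => ?_
    split
    · rw [hRrmul, hRrmul, Algebra.TensorProduct.algebraMap_apply]
      show _ = Rr (c₁ i j ⊗ₜ 1) * y i * y j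
      rw [hRr, Algebra.smul_def, mul_one]
    · rw [map_zero]
  have hq1 : q i₀ j₀ = 1 := by
    simp only [q, c₁, inv_mul_cancel₀ hne]
    simpa using hr1 1
  let R := Morse.HR k (n + 1)
  let Q : R := Morse.ι k (n + 1) (VanCyc.quadPoly q)
  have hQ3 : Q ∉ maximalIdeal R ^ 3 := fun h => by
    have hQe : Q = VanCyc.quadEval (fun i j => Morse.ι k (n + 1) (.C (q i j))) (fun i => Morse.ι k (n + 1) (.X i)) := by
      simp only [Q, QS97.quadPoly_eq_quadEval, QS97.map_quadEval]
    rw [hQe] at h
    have h2 := mem_of_quadEval_mem _ h hij₀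
    rw [hq1, map_one, map_one] at h2
    exact (maximalIdeal.isMaximal R).ne_top ((Ideal.eq_top_iff_one _).2 h2)
  -- the embedding in power series
  obtain ⟨ρ, hρ, hρm, hρs⟩ := Morse.exists_toPS k (n + 1)
  obtain ⟨sL, sL', hsL, hsLX, hsLm, hsLm'⟩ := exists_linSubst L hLdet
  let cK : MvPowerSeries (Fin (n + 1)) k →+* P := MvPowerSeries.map (algebraMap k K)
  let α : R →+* P := sL.toRingHom.comp (cK.comp ρ)
  have hcKm : ∀ (j : ℕ) z, cK z ∈ MS ^ j ↔ z ∈ maximalIdeal (MvPowerSeries (Fin (n + 1)) k) ^ j := fun j z => by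
    constructor
    · intro h
      refine QS97.mem_pow_of_ordGE j fun d hd => ?_
      have := QS97.ordGE_of_mem_pow j h d hd
      simp only [cK, MvPowerSeries.coeff_map] at this
      exact (algebraMap k K).injective (this.trans (map_zero _).symm)
    · intro h
      refine QS97.mem_pow_of_ordGE j fun d hd => ?_
      show coeff d (MvPowerSeries.map (algebraMap k K) z) = 0
      rw [MvPowerSeries.coeff_map, QS97.ordGE_of_mem_pow j h d hd, map_zero]
  have hαm : ∀ (j : ℕ) z, α z ∈ MS ^ j ↔ z ∈ maximalIdeal R ^ j := fun j z => by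
    rw [← hρm, ← hcKm]
    refine ⟨fun h => ?_, fun h => hsLm h⟩
    have h2 := hsLm' h
    rwa [show sL' (α z) = cK (ρ z) from hsL _] at h2
  have hαC : ∀ c, α (Morse.ι k (n + 1) (.C c)) = C (algebraMap k K c) := fun c => by
    show sL (cK (ρ _)) = _
    rw [hρ, MvPolynomial.coe_C, show cK (C c) = C (algebraMap k K c) from MvPowerSeries.map_C _ _]
    exact sL.commutes _
  have hαX : ∀ i, α (Morse.ι k (n + 1) (.X i)) = aP i := fun i => by
    show sL (cK (ρ _)) = _
    rw [hρ, MvPolynomial.coe_X, show cK (X i) = X i from MvPowerSeries.map_X _ _]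
    exact hsLX i
  have hQe : α Q = VanCyc.quadEval (fun i j => C (algebraMap k K (q i j))) aP := by
    simp only [Q, QS97.quadPoly_eq_quadEval, QS97.map_quadEval, hαC, hαX]
  have hf1m : f1 ∈ MS := Ideal.pow_le_self two_ne_zero hf12
  haveI : Nontrivial (P ⧸ Ideal.span {f1}) := Ideal.Quotient.nontrivial_iff.2 fun h =>
    (maximalIdeal.isMaximal P).ne_top (top_le_iff.1 (h ▸ (Ideal.span_singleton_le_iff_mem _).2 hf1m))
  haveI : IsLocalRing (P ⧸ Ideal.span {f1}) := IsLocalRing.of_surjective' π Ideal.Quotient.mk_surjective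
  haveI := Morse.henselianLocalRing_mvPowerSeries K (n + 1)
  haveI := EtAlg23.henselianLocalRing_of_surjective π Ideal.Quotient.mk_surjective
  haveI : IsLocalHom π := IsLocalHom.of_surjective _ Ideal.Quotient.mk_surjective
  have hδl : IsLocalHom δ := ⟨fun x hx => by
    by_contra hn
    have := (hδm 1 x).2 (by rw [pow_one]; exact (mem_maximalIdeal x).2 hn)
    have h1 := Ideal.pow_le_self one_ne_zero this
    have h2 : MS.map π ≤ maximalIdeal _ := ((local_hom_TFAE π).out 0 2).mp ‹IsLocalHom π›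
    exact (mem_maximalIdeal _).1 (h2 h1) hx⟩
  obtain ⟨τ, hτ, -⟩ := hO.universal (P ⧸ Ideal.span {f1}) δ hδl
  have hmain : ∀ (g : R →+* Oh), IsLocalHom g → Function.Surjective g →
      (∀ p, g (Morse.ι k (n + 1) p) = algebraMap O Oh (MvPolynomial.aeval y p)) →
      ∃ F, RingHom.ker g = Ideal.span {F} ∧ F - Q ∈ maximalIdeal R ^ 3 ∧ ∃ v, v * f1 = α F := by
    intro g hgl hgs hg
    have hcomm : τ.comp g = π.comp α := by
      refine (Morse.existsUnique_hom k (n + 1) ((π.comp α).comp (Morse.ι k (n + 1))) fun i => ?_).2 _ _ ?_ rfl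
      · show π (α (Morse.ι k (n + 1) (.X i))) ∈ _
        rw [hαX]
        refine Morse.map_mem π (CAlg6.mem_maximalIdeal_iff.2 ?_)
        simp [aP]
      · refine MvPolynomial.ringHom_ext (fun c => ?_) fun i => ?_
        · show τ (g (Morse.ι k (n + 1) (.C c))) = π (α (Morse.ι k (n + 1) (.C c)))
          rw [hg, MvPolynomial.aeval_C, hαC, ← hδC]
          exact RingHom.congr_fun hτ _
        · show τ (g (Morse.ι k (n + 1) (.X i))) = π (α (Morse.ι k (n + 1) (.X i)))
          rw [hg, MvPolynomial.aeval_X, hαX, ← hδy]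
          exact RingHom.congr_fun hτ _
    have hgQ : g Q ∈ maximalIdeal Oh ^ 3 := by
      show g (Morse.ι k (n + 1) _) ∈ _
      rw [hg]
      have := Ideal.mem_map_of_mem (algebraMap O Oh) hQy
      rw [Ideal.map_pow] at this
      exact Ideal.pow_right_mono (((local_hom_TFAE (algebraMap O Oh)).out 0 2).mp ‹_›) 3 this
    haveI := hgl
    rw [← Morse.map_maximalIdeal_of_surjective g hgs, ← Ideal.map_pow] at hgQ
    obtain ⟨h, hh, hgh⟩ := (Ideal.mem_map_iff_of_surjective g hgs).1 hgQ
    let F := Q - h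
    have hgF : g F = 0 := by rw [map_sub, hgh, sub_self]
    have hFQ : F - Q ∈ maximalIdeal R ^ 3 := by
      show Q - h - Q ∈ _
      rw [sub_sub_cancel_left]
      exact neg_mem hh
    have hker : ∀ z, g z = 0 → α z ∈ Ideal.span {f1} := fun z hz => Ideal.Quotient.eq_zero_iff_mem.1 (by
      show (π.comp α) z = 0
      rw [← hcomm, RingHom.comp_apply, hz, map_zero])
    obtain ⟨v, hv⟩ := Ideal.mem_span_singleton'.1 (hker F hgF)
    have hvu : IsUnit v := by
      by_contra hn
      refine hQ3 ?_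
      have h3 : F ∈ maximalIdeal R ^ 3 := by
        rw [← hαm, ← hv, pow_succ']
        exact Ideal.mul_mem_mul ((mem_maximalIdeal v).2 hn) hf12
      simpa using sub_mem h3 hFQ
    refine ⟨F, le_antisymm (fun z hz => ?_) ((Ideal.span_singleton_le_iff_mem _).2 hgF), hFQ, v, hv⟩
    obtain ⟨w, hw⟩ := Ideal.mem_span_singleton'.1 (hker z hz)
    have hw' : α z = (w * ↑hvu.unit⁻¹) * α F := by
      rw [← hw, ← hv]
      linear_combination (-(w * f1)) * hvu.val_inv_mul
    have hz1 : cK (ρ z) = sL' (w * ↑hvu.unit⁻¹) * cK (ρ F) := by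
      have := congrArg sL' hw'
      rwa [map_mul, show sL' (α z) = cK (ρ z) from hsL _, show sL' (α F) = cK (ρ F) from hsL _] at this
    let rS : P → MvPowerSeries (Fin (n + 1)) k := fun p d => r (coeff d p)
    have hrS : ∀ p (s : MvPowerSeries (Fin (n + 1)) k), rS (p * cK s) = rS p * s := fun p s => by
      funext d
      show r (coeff d (p * cK s)) = coeff d (rS p * s)
      rw [coeff_mul, coeff_mul, map_sum]
      refine Finset.sum_congr rfl fun x _ => ?_
      rw [show coeff x.2 (cK s) = algebraMap k K (coeff x.2 s) from coeff_map _ _ _, mul_comm,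
        ← Algebra.smul_def, map_smul, smul_eq_mul, mul_comm]
      rfl
    have hz2 : ρ z = rS (sL' (w * ↑hvu.unit⁻¹)) * ρ F := by
      rw [← hrS, ← hz1]
      funext d
      show coeff d (ρ z) = r (coeff d (cK (ρ z)))
      rw [show coeff d (cK (ρ z)) = algebraMap k K (coeff d (ρ z)) from coeff_map _ _ _, hr1]
    rw [← Ideal.Quotient.eq_zero_iff_mem]
    have hne : (Ideal.span {F} : Ideal R) ≤ maximalIdeal R :=
      (Ideal.span_singleton_le_iff_mem _).2 ((mem_maximalIdeal F).2 fun hu => (hu.map g).ne_zero hgF)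
    haveI : Nontrivial (R ⧸ Ideal.span {F}) := Ideal.Quotient.nontrivial_iff.2 fun h' =>
      (maximalIdeal.isMaximal R).ne_top (top_le_iff.1 (h' ▸ hne))
    haveI : IsLocalRing (R ⧸ Ideal.span {F}) := IsLocalRing.of_surjective' _ Ideal.Quotient.mk_surjective
    haveI : IsLocalHom (Ideal.Quotient.mk (Ideal.span {F})) := IsLocalHom.of_surjective _ Ideal.Quotient.mk_surjective
    rw [← Ideal.mem_bot, ← Ideal.iInf_pow_eq_bot_of_isLocalRing _ (maximalIdeal.isMaximal (R ⧸ Ideal.span {F})).ne_top,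
      Ideal.mem_iInf]
    intro m
    obtain ⟨s, hs⟩ := hρs m (rS (sL' (w * ↑hvu.unit⁻¹)))
    have hzm : z - s * F ∈ maximalIdeal R ^ m := by
      rw [← hρm, map_sub, map_mul, hz2, ← sub_mul]
      rw [← neg_sub]
      exact Ideal.mul_mem_right _ _ (neg_mem hs)
    have := Ideal.mem_map_of_mem (Ideal.Quotient.mk (Ideal.span {F})) hzm
    rw [map_sub, map_mul, Ideal.Quotient.eq_zero_iff_mem.2 (Ideal.mem_span_singleton_self F), mul_zero, sub_zero,
      Ideal.map_pow] at this
    exact Ideal.pow_right_mono (((local_hom_TFAE (Ideal.Quotient.mk (Ideal.span {F}))).out 0 2).mp ‹_›) m this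
  -- non-degeneracy
  obtain ⟨g₀, hg₀l, hg₀s, hg₀⟩ := Morse.exists_surjective (Oh := Oh) (fun x => ⟨res x, hres x⟩) y hy
  obtain ⟨F, -, hFQ, v, hv⟩ := hmain g₀ hg₀l hg₀s hg₀
  refine ⟨q, y, ?_, hy, fun g h1 h2 h3 => ?_⟩
  · let v0 := constantCoeff v
    let W : Matrix (Fin (n + 1)) (Fin (n + 1)) K := Lᵀ * (QS97.upper fun i j => algebraMap k K (q i j)) * L
    have hU : QS97.upper (fun i j => (C (algebraMap k K (q i j)) : P)) =
        (QS97.upper fun i j => algebraMap k K (q i j)).map (C : K →+* P) := by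
      ext i j : 1
      simp only [QS97.upper, Matrix.map_apply]
      split <;> simp
    have hQW : α Q = VanCyc.quadEval (fun i j => C (Morse.symT W i j)) xP := by
      rw [hQe, show aP = (L.map (C : K →+* P)) *ᵥ xP from rfl, Morse.quadEval_mulVec, hU]
      simp only [W, Morse.symT_map, Matrix.map_mul, Matrix.transpose_map]
    have h6 : α Q - C v0 * ((VanCyc.quadPoly q' : MvPolynomial (Fin (n + 1)) K) : MvPowerSeries (Fin (n + 1)) K) ∈ MS ^ 3 := by
      have e : α Q - C v0 * ((VanCyc.quadPoly q' : MvPolynomial (Fin (n + 1)) K) : MvPowerSeries (Fin (n + 1)) K) =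
          (α Q - α F) + ((v - C v0) * f1 + C v0 * (f1 - ((VanCyc.quadPoly q' : MvPolynomial (Fin (n + 1)) K) : MvPowerSeries (Fin (n + 1)) K))) := by
        rw [← hv]; ring
      rw [e]
      refine add_mem ?_ (add_mem ?_ (Ideal.mul_mem_left _ _ hf13))
      · rw [← map_sub, hαm, ← neg_sub]; exact neg_mem hFQ
      · rw [pow_succ']; exact Ideal.mul_mem_mul (CAlg6.mem_maximalIdeal_iff.2 (by simp [v0])) hf12
    have hcoef : ∀ i j, i ≤ j → Morse.symT W i j = v0 * q' i j := fun i j hij => by
      have h7 := QS97.ordGE_of_mem_pow 3 h6 (QS97.pairExp i j) (by simp [QS97.pairExp, map_add])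
      rw [hQW, map_sub, QS97.coe_quadPoly, coeff_C_mul, QS97.coeff_quadEval_pairExp _ hij, sub_eq_zero] at h7
      rw [QS97.coeff_quadEval_pairExp q' hij] at h7
      exact h7
    have hv0 : v0 ≠ 0 := fun h0 => by
      refine hQ3 ?_
      have h3 : F ∈ maximalIdeal R ^ 3 := by
        rw [← hαm, ← hv, pow_succ']
        exact Ideal.mul_mem_mul (CAlg6.mem_maximalIdeal_iff.2 h0) hf12
      simpa using sub_mem h3 hFQ
    have hP : Lᵀ * VanCyc.polarMatrix (fun i j => algebraMap k K (q i j)) * L = v0 • VanCyc.polarMatrix q' := by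
      have h8 : VanCyc.polarMatrix (fun i j => algebraMap k K (q i j)) =
          QS97.upper (fun i j => algebraMap k K (q i j)) + (QS97.upper fun i j => algebraMap k K (q i j))ᵀ := by
        ext i j
        rw [QS97.polarMatrix_eq_upper]
        rfl
      rw [h8, Matrix.mul_add, Matrix.add_mul]
      have h9 : Lᵀ * (QS97.upper fun i j => algebraMap k K (q i j))ᵀ * L = Wᵀ := by
        simp only [W, Matrix.transpose_mul, Matrix.transpose_transpose, Matrix.mul_assoc]
      rw [h9]
      ext i j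
      show W i j + W j i = v0 * _
      rcases lt_trichotomy i j with h | h | h
      · have := hcoef i j h.le
        simp only [Morse.symT, if_neg h.ne] at this
        rw [this]
        simp [VanCyc.polarMatrix, h.ne, h]
      · subst h
        have := hcoef i i le_rfl
        simp only [Morse.symT, if_true] at this
        rw [this]
        simp [VanCyc.polarMatrix]
        ring
      · have := hcoef j i h.le
        simp only [Morse.symT, if_neg h.ne] at this
        rw [add_comm, this]
        simp [VanCyc.polarMatrix, h.ne', h.not_gt]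
    refine ⟨q', L, v0, hnd, hv0, hLdet, fun x => ?_, hP⟩
    rw [Morse.quadEval_mulVec]
    show VanCyc.quadEval (Morse.symT W) x = _
    simp only [VanCyc.quadEval, Finset.mul_sum]
    refine Finset.sum_congr rfl fun i _ => Finset.sum_congr rfl fun j _ => ?_
    split
    · next hij => rw [hcoef i j hij]; ring
    · rw [mul_zero]
  · obtain ⟨F, h4, h5, -⟩ := hmain g h1 h2 h3
    exact ⟨F, h4, h5⟩

/-- The equation of a non-degenerate quadratic point over a field. -/
theorem exists_field_hypersurface (K : Type u) [Field K] [Algebra k K] {O Oh : Type u} [CommRing O]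
    [IsLocalRing O] [Algebra k O] [Algebra.EssFiniteType k O] [CommRing Oh] [IsLocalRing Oh] [Algebra O Oh]
    [IsLocalHom (algebraMap O Oh)] [hO : Hensel.IsHenselization O Oh] {n : ℕ}
    (hres : ∀ x : O, ∃ c : k, x - algebraMap k O c ∈ maximalIdeal O)
    (hq : ∀ (M : Ideal (K ⊗[k] O)) [M.IsMaximal], VanCyc.IsNondegQuadSing K (Localization.AtPrime M) n) :
    ∃ (q : Fin (n + 1) → Fin (n + 1) → k) (y : Fin (n + 1) → O),
      VanCyc.QuadNondeg q ∧ Ideal.span (Set.range y) = maximalIdeal O ∧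
      ∀ (g : Morse.HR k (n + 1) →+* Oh), IsLocalHom g → Function.Surjective g →
        (∀ p, g (Morse.ι k (n + 1) p) = algebraMap O Oh (MvPolynomial.aeval y p)) →
        ∃ F, RingHom.ker g = Ideal.span {F} ∧
          F - Morse.ι k (n + 1) (VanCyc.quadPoly q) ∈ maximalIdeal (Morse.HR k (n + 1)) ^ 3 := by
  obtain ⟨q, y, ⟨q', L, v0, hnd, hv0, -, -, hP⟩, hy, hg⟩ := exists_field_hypersurface' K (Oh := Oh) hres
    VanCyc.QuadNondeg (fun _ => quadOrd_of_nondeg) hq
  refine ⟨q, y, ?_, hy, hg⟩
  have hdetP := congrArg Matrix.det hP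
  rw [Matrix.det_mul, Matrix.det_mul, Matrix.det_transpose, Matrix.det_smul] at hdetP
  have hne2 : (VanCyc.polarMatrix fun i j => algebraMap k K (q i j)).det ≠ 0 := fun h0 => by
    rw [h0, mul_zero, zero_mul] at hdetP
    exact mul_ne_zero (pow_ne_zero _ hv0) (isUnit_iff_ne_zero.1 hnd) hdetP.symm
  rw [QS97.polarMatrix_map, ← RingHom.mapMatrix_apply, ← RingHom.map_det] at hne2
  exact isUnit_iff_ne_zero.2 fun h0 => hne2 (by rw [h0, map_zero])

end Groth.Agent.An92.MorseA
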