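import Groth.Agent.An92.MorseA.Center

/-! Normal forms and models of non-degenerate quadratic germs. -/

set_option autoImplicit false
set_option linter.style.haveILetI false

universe u

open IsLocalRing Matrix

namespace Groth.Agent.An92.MorseA

variable (A : Type u) [CommRing A] [HenselianLocalRing A] (N : ℕ)

/-- The Morse lemma over a henselian local ring. -/
theorem exists_normal' (q : Fin N → Fin N → A) (hq : VanCyc.QuadNondeg q) (F : HA A N)
    (hF : F - VanCyc.quadEval (fun i j => κ A N (q i j)) (xv A N) ∈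
      (maximalIdeal A).map (κ A N) ⊔ maximalIdeal (HA A N) ^ 3) :
    ∃ (Φ : HA A N →+* HA A N) (b : A), Function.Bijective Φ ∧ (∀ a, Φ (κ A N a) = κ A N a) ∧
      b ∈ maximalIdeal A ∧ (Φ F = ι A N (VanCyc.quadPoly q - MvPolynomial.C b)) ∧
      ∀ (a : Ideal A) (s : A), F - VanCyc.quadEval (fun i j => κ A N (q i j)) (xv A N) - κ A N s ∈
        a.map (κ A N) ⊔ maximalIdeal (HA A N) ^ 3 → b + s ∈ a ⊔ maximalIdeal A ^ 3 := by
  classical
  obtain ⟨θ, b, W, hθ, hθC, hb, hθF, hW, hcrit⟩ := exists_center' A N q hq F hF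
  haveI : HenselianLocalRing (HA A N) := inferInstance
  have hqR : VanCyc.QuadNondeg fun i j => κ A N (q i j) := by
    have := hq.map (κ A N)
    rw [RingHom.map_det] at this
    show IsUnit (VanCyc.polarMatrix fun i j => κ A N (q i j)).det
    rw [QS97.polarMatrix_map]
    exact this
  obtain ⟨M, hM, hMx⟩ := Morse.exists_morse_nondeg (HA A N) (fun i j => κ A N (q i j)) (Morse.symT W) hW hqR
  have hy : ∀ i, (M *ᵥ xv A N) i ∈ maximalIdeal (HA A N) := fun i => by
    show ∑ j, M i j * xv A N j ∈ _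
    exact sum_mem fun j _ => Ideal.mul_mem_left _ _ (xv_mem A N j)
  have hgen : maximalIdeal (HA A N) ≤ (maximalIdeal A).map (κ A N) ⊔ Ideal.span (Set.range (M *ᵥ xv A N)) := by
    refine le_of_eq_of_le (maximalIdeal_eq A N) (sup_le le_sup_left (Ideal.span_le.2 ?_))
    rintro _ ⟨a, rfl⟩
    have hx : xv A N a = ∑ b, M⁻¹ a b * (M *ᵥ xv A N) b := by
      show _ = (M⁻¹ *ᵥ (M *ᵥ xv A N)) a
      rw [Matrix.mulVec_mulVec, Matrix.nonsing_inv_mul _ hM, Matrix.one_mulVec]
    rw [hx]
    exact Ideal.mem_sup_right (sum_mem fun b _ => Ideal.mul_mem_left (Ideal.span (Set.range (M *ᵥ xv A N)))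
      (M⁻¹ a b) (Ideal.subset_span (Set.mem_range_self b)))
  obtain ⟨ψ, hψl, hψ, hψC, hψX⟩ := exists_bijective_endo A N _ hy hgen
  let ψe := RingEquiv.ofBijective ψ hψ
  refine ⟨ψe.symm.toRingHom.comp θ, -b, ψe.symm.bijective.comp hθ, fun a => ?_, neg_mem hb, ?_, fun a s h => ?_⟩
  · show ψe.symm (θ (κ A N a)) = κ A N a
    rw [hθC, RingEquiv.symm_apply_eq]
    exact (hψC a).symm
  · show ψe.symm (θ F) = _
    rw [RingEquiv.symm_apply_eq]
    show θ F = ψ _
    have hQ : ψ (ι A N (VanCyc.quadPoly q)) = VanCyc.quadEval (fun i j => κ A N (q i j)) (M *ᵥ xv A N) := by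
      rw [QS97.quadPoly_eq_quadEval, QS97.map_quadEval, QS97.map_quadEval]
      congr 1
      · funext i j; exact hψC _
      · funext i; exact hψX i
    rw [map_sub, map_sub, hQ, hMx, Morse.quadEval_symT, hθF]
    have hC : ψ (ι A N (MvPolynomial.C (-b))) = κ A N (-b) := hψC _
    rw [hC, map_neg, sub_neg_eq_add, add_comm]
  · rw [neg_add_eq_sub, ← neg_sub]
    exact neg_mem (hcrit a s h)

/-- The Morse lemma over a henselian local ring. -/
theorem exists_normal (q : Fin N → Fin N → A) (hq : VanCyc.QuadNondeg q) (F : HA A N)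
    (hF : F - VanCyc.quadEval (fun i j => κ A N (q i j)) (xv A N) ∈
      (maximalIdeal A).map (κ A N) ⊔ maximalIdeal (HA A N) ^ 3) :
    ∃ (Φ : HA A N →+* HA A N) (b : A), Function.Bijective Φ ∧ (∀ a, Φ (κ A N a) = κ A N a) ∧
      b ∈ maximalIdeal A ∧ Φ F = ι A N (VanCyc.quadPoly q - MvPolynomial.C b) := by
  obtain ⟨Φ, b, h1, h2, h3, h4, -⟩ := exists_normal' A N q hq F hF
  exact ⟨Φ, b, h1, h2, h3, h4⟩

/-- The henselization of the model at the origin of the closed fibre. -/
theorem exists_cone (q : Fin N → Fin N → A) (b : A) (hb : b ∈ maximalIdeal A)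
    [(VanCyc.originQuot A q b).IsPrime] (C : Type u) [CommRing C] [IsLocalRing C]
    [Algebra (Localization.AtPrime (VanCyc.originQuot A q b)) C]
    [IsLocalHom (algebraMap (Localization.AtPrime (VanCyc.originQuot A q b)) C)]
    [hC : Hensel.IsHenselization (Localization.AtPrime (VanCyc.originQuot A q b)) C] :
    ∃ g : HA A N →+* C, Function.Surjective g ∧
      RingHom.ker g = Ideal.span {ι A N (VanCyc.quadPoly q - MvPolynomial.C b)} ∧
      ∀ c, g (κ A N c) =
        algebraMap (Localization.AtPrime (VanCyc.originQuot A q b)) C (algebraMap A _ c) := by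
  classical
  let R := HA A N
  let Pn := MvPolynomial (Fin N) A
  let L := Localization.AtPrime (VanCyc.originQuot A q b)
  let Qx : R := ι A N (VanCyc.quadPoly q - MvPolynomial.C b)
  haveI := hC.henselian
  have hQo : VanCyc.quadPoly q - MvPolynomial.C b ∈ org A N := by
    rw [mem_org_iff, map_sub, MvPolynomial.constantCoeff_C, QS97.quadPoly_eq_quadEval, QS97.map_quadEval]
    refine sub_mem ?_ hb
    refine sum_mem fun i _ => sum_mem fun j _ => ?_
    split <;> simp
  have hmemO : ∀ p : Pn, Ideal.Quotient.mk _ p ∈ VanCyc.originQuot A q b ↔ p ∈ org A N := fun p => by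
    rw [VanCyc.originQuot, ← org_eq, ← Ideal.mem_comap, Ideal.comap_map_of_surjective _ Ideal.Quotient.mk_surjective,
      ← RingHom.ker_eq_comap_bot, Ideal.mk_ker, sup_eq_left.2 ((Ideal.span_singleton_le_iff_mem _).2 hQo)]
  let fC : Pn →+* C := ((algebraMap L C).comp (algebraMap (VanCyc.quadRing A q b) L)).comp (Ideal.Quotient.mk _)
  have hfC : ∀ p, p ∈ org A N → fC p ∈ maximalIdeal C := fun p hp => by
    refine Morse.map_mem (A := L) (algebraMap L C) ?_
    rw [IsLocalization.AtPrime.to_map_mem_maximal_iff L (VanCyc.originQuot A q b), hmemO]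
    exact hp
  obtain ⟨g, hg, hgl⟩ := (existsUnique_hom fC (fun a ha => hfC _ (by simpa [mem_org_iff] using ha))
    fun i => hfC _ (by simp [mem_org_iff])).1
  have hgQ : g Qx = 0 := by
    rw [show g Qx = fC _ from RingHom.congr_fun hg _]
    refine (congrArg (algebraMap L C) ((congrArg (algebraMap (VanCyc.quadRing A q b) L)
      (Ideal.Quotient.eq_zero_iff_mem.2 (Ideal.mem_span_singleton_self _))).trans (map_zero _))).trans (map_zero _)
  have hne : Ideal.span {Qx} ≠ ⊤ := fun h => by
    have hu := (Ideal.span_singleton_eq_top.1 h).map g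
    rw [hgQ] at hu
    exact not_isUnit_zero hu
  let π := Ideal.Quotient.mk (Ideal.span {Qx})
  haveI : Nontrivial (R ⧸ Ideal.span {Qx}) := Ideal.Quotient.nontrivial_iff.2 hne
  haveI : IsLocalRing (R ⧸ Ideal.span {Qx}) := IsLocalRing.of_surjective' π Ideal.Quotient.mk_surjective
  haveI : HenselianLocalRing R := inferInstance
  haveI hT := EtAlg23.henselianLocalRing_of_surjective π Ideal.Quotient.mk_surjective
  haveI : IsLocalHom π := IsLocalHom.of_surjective _ Ideal.Quotient.mk_surjective
  let j0 : VanCyc.quadRing A q b →+* R ⧸ Ideal.span {Qx} :=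
    Ideal.Quotient.lift _ (π.comp (ι A N)) fun p hp => by
      obtain ⟨a, rfl⟩ := Ideal.mem_span_singleton'.1 hp
      rw [map_mul]
      exact mul_eq_zero_of_right _ (Ideal.Quotient.eq_zero_iff_mem.2 (Ideal.mem_span_singleton_self Qx))
  let j : L →+* R ⧸ Ideal.span {Qx} := IsLocalization.lift (M := (VanCyc.originQuot A q b).primeCompl) (g := j0) fun s => by
    obtain ⟨p, hp⟩ := Ideal.Quotient.mk_surjective s.1
    have hp' : p ∈ (org A N).primeCompl := fun h => s.2 (hp ▸ (hmemO p).2 h)
    rw [← hp]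
    exact ((IsLocalization.map_units (Loc A N) (⟨p, hp'⟩ : (org A N).primeCompl)).map
      (algebraMap (Loc A N) R)).map π
  let ψ : R ⧸ Ideal.span {Qx} →+* C := Ideal.Quotient.lift _ g fun z hz => by
    obtain ⟨a, rfl⟩ := Ideal.mem_span_singleton'.1 hz
    rw [map_mul, hgQ, mul_zero]
  haveI : IsLocalHom ψ := ⟨fun z hz => by
    obtain ⟨r, rfl⟩ := Ideal.Quotient.mk_surjective z
    exact (isUnit_of_map_unit g r hz).map π⟩
  have hψ : ψ.comp j = algebraMap L C := by
    refine IsLocalization.ringHom_ext (VanCyc.originQuot A q b).primeCompl (RingHom.ext fun z => ?_)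
    obtain ⟨p, rfl⟩ := Ideal.Quotient.mk_surjective z
    show ψ (j (algebraMap (VanCyc.quadRing A q b) L _)) = _
    rw [IsLocalization.lift_eq]
    exact RingHom.congr_fun hg p
  have hb' := Henz21.bijective_of_henselization (R := L) (S := C) j ψ hψ fun h hl hh => by
    refine Ideal.Quotient.ringHom_ext (hom_ext _ _ (fun a => ?_) fun i => ?_)
    · have := RingHom.congr_fun hh (algebraMap (VanCyc.quadRing A q b) L (Ideal.Quotient.mk _ (MvPolynomial.C a)))
      rw [RingHom.comp_apply, IsLocalization.lift_eq] at this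
      exact this
    · have := RingHom.congr_fun hh (algebraMap (VanCyc.quadRing A q b) L (Ideal.Quotient.mk _ (MvPolynomial.X i)))
      rw [RingHom.comp_apply, IsLocalization.lift_eq] at this
      exact this
  refine ⟨g, fun z => ?_, le_antisymm (fun z hz => ?_) ((Ideal.span_singleton_le_iff_mem _).2 hgQ), fun c => ?_⟩
  · obtain ⟨w, hw⟩ := hb'.2 z
    obtain ⟨r, rfl⟩ := Ideal.Quotient.mk_surjective w
    exact ⟨r, hw⟩
  · exact Ideal.Quotient.eq_zero_iff_mem.1 (hb'.1 ((show ψ (π z) = 0 from hz).trans (map_zero ψ).symm))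
  · rw [show g (κ A N c) = fC (MvPolynomial.C c) from RingHom.congr_fun hg _]
    show algebraMap L C _ = algebraMap L C _
    rw [IsScalarTower.algebraMap_apply A (VanCyc.quadRing A q b) L]
    rfl

end Groth.Agent.An92.MorseA
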