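import Groth.Agent.An92.MorseA.Field
import Groth.Agent.An92.MorseA.Normal
import Groth.Agent.Henz21.FaithfullyFlat
import Groth.Agent.Henz21.IsoCriterion
import Groth.Agent.S13598
import Mathlib.RingTheory.Flat.EquationalCriterion
import Mathlib.RingTheory.Finiteness.Nakayama

/-! Presenting the henselization of a local ring of a flat algebra as a quotient of `HA A N`. -/

set_option autoImplicit false
set_option linter.style.haveILetI false

universe u

open IsLocalRing Matrix
open scoped TensorProduct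

namespace Groth.Agent.An92.MorseA

/-- A quadratic singularity whose quadratic part satisfies `Pd`. -/
def QuadSingWith (K : Type u) [Field K] (O : Type u) [CommRing O] [IsLocalRing O] [Algebra K O] (n : ℕ)
    (Pd : (Fin (n + 1) → Fin (n + 1) → K) → Prop) : Prop :=
  ∃ f : MvPowerSeries (Fin (n + 1)) K, (VanCyc.NoLowTerms f ∧ Pd (VanCyc.quadPart f)) ∧
    Nonempty (AdicCompletion (maximalIdeal O) O ≃ₐ[K] (MvPowerSeries (Fin (n + 1)) K ⧸ Ideal.span {f}))

/-- A geometric quadratic point whose quadratic part satisfies `Pd`. -/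
def QuadPtWith {k : Type u} [Field k] {O : Type u} [CommRing O] (φ : k →+* O) (n : ℕ)
    (Pd : (Fin (n + 1) → Fin (n + 1) → AlgebraicClosure k) → Prop) : Prop :=
  letI := φ.toAlgebra
  ∀ (M : Ideal (AlgebraicClosure k ⊗[k] O)) [M.IsMaximal],
    QuadSingWith (AlgebraicClosure k) (Localization.AtPrime M) n Pd

/-- Two surjections with the same kernel, compatible with scalars, give isomorphic algebras. -/
theorem algEquiv_of_ker {A R S T : Type u} [CommRing A] [CommRing R] [CommRing S] [CommRing T] [Algebra A S]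
    [Algebra A T] (κR : A →+* R) (f : R →+* S) (g : R →+* T) (hf : Function.Surjective f)
    (hg : Function.Surjective g) (hfκ : ∀ c, f (κR c) = algebraMap A S c)
    (hgκ : ∀ c, g (κR c) = algebraMap A T c) (hker : RingHom.ker f = RingHom.ker g) :
    Nonempty (S ≃ₐ[A] T) := by
  letI : Algebra A R := κR.toAlgebra
  let fA : R →ₐ[A] S := { f with commutes' := hfκ }
  let gA : R →ₐ[A] T := { g with commutes' := hgκ }
  exact ⟨(Ideal.quotientKerAlgEquivOfSurjective (f := fA) hf).symm.trans
    ((Ideal.quotientEquivAlgOfEq A (show RingHom.ker fA = RingHom.ker gA from hker)).trans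
      (Ideal.quotientKerAlgEquivOfSurjective (f := gA) hg))⟩

/-- A flat quotient meets the extension of a base ideal in the product. -/
theorem inf_le_mul_of_flat {A R : Type u} [CommRing A] [CommRing R] [Algebra A R] (I : Ideal R)
    [Module.Flat A (R ⧸ I)] (m : Ideal A) :
    I ⊓ m.map (algebraMap A R) ≤ m.map (algebraMap A R) * I := by
  rintro z ⟨hzI, hzm⟩
  obtain ⟨l, a, r, ha, rfl⟩ : ∃ (l : ℕ) (a : Fin l → A) (r : Fin l → R),
      (∀ i, a i ∈ m) ∧ z = ∑ i, algebraMap A R (a i) * r i := by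
    rw [SetLike.mem_coe, Ideal.map, Ideal.span, Submodule.mem_span_set'] at hzm
    obtain ⟨l, r, g, hg⟩ := hzm
    choose a ha hag using fun i => (g i).2
    exact ⟨l, a, r, ha, hg.symm.trans (Finset.sum_congr rfl fun i _ => by rw [smul_eq_mul, mul_comm, hag])⟩
  have h0 : ∑ i, a i • Ideal.Quotient.mk I (r i) = 0 := by
    rw [← Ideal.Quotient.eq_zero_iff_mem.2 hzI, map_sum]
    exact Finset.sum_congr rfl fun i _ => by rw [Algebra.smul_def, map_mul]; rfl
  obtain ⟨k, c, y, hy, hc⟩ : Module.IsTrivialRelation a (fun i => Ideal.Quotient.mk I (r i)) :=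
    Module.Flat.isTrivialRelation_of_sum_smul_eq_zero (R := A) (M := R ⧸ I) (f := a) (x := fun i => Ideal.Quotient.mk I (r i)) h0
  choose w hw using fun j => Ideal.Quotient.mk_surjective (y j)
  have e : ∑ j, algebraMap A R (∑ i, a i * c i j) * w j = 0 :=
    Finset.sum_eq_zero fun j _ => by rw [hc j, map_zero, zero_mul]
  have hz : ∑ i, algebraMap A R (a i) * r i =
      ∑ i, algebraMap A R (a i) * (r i - ∑ j, algebraMap A R (c i j) * w j) := by
    simp only [map_sum, map_mul, Finset.sum_mul, mul_assoc] at e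
    rw [Finset.sum_comm] at e
    simp only [mul_sub, Finset.sum_sub_distrib, Finset.mul_sum, e, sub_zero]
  rw [hz]
  refine sum_mem fun i _ => Ideal.mul_mem_mul (Ideal.mem_map_of_mem _ (ha i)) ?_
  rw [← Ideal.Quotient.eq_zero_iff_mem, map_sub, map_sum, show Ideal.Quotient.mk I (r i) = _ from hy i, sub_eq_zero]
  exact Finset.sum_congr rfl fun j _ => by rw [← hw j, Algebra.smul_def, map_mul]; rfl

/-- A finitely generated ideal that is principal modulo the product with a small ideal is principal. -/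
theorem eq_span_of_le_sup {R : Type u} [CommRing R] [IsLocalRing R] {I J : Ideal R} (hI : I.FG)
    (hJ : J ≤ maximalIdeal R) {F : R} (hF : F ∈ I) (h : I ≤ Ideal.span {F} ⊔ J * I) :
    I = Ideal.span {F} :=
  le_antisymm (Submodule.le_of_le_smul_of_le_jacobson_bot hI (hJ.trans (maximalIdeal_le_jacobson _)) h)
    ((Ideal.span_singleton_le_iff_mem _).2 hF)

variable {A : Type u} [CommRing A] [HenselianLocalRing A] {N : ℕ}

/-- Elements outside the origin become units. -/
theorem isUnit_of_notMem_org {T : Type u} [CommRing T] [IsLocalRing T] (f : MvPolynomial (Fin N) A →+* T)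
    (hle : org A N ≤ (maximalIdeal T).comap f) (q : (org A N).primeCompl) : IsUnit (f q) := by
  by_contra hn
  have h2 : f (q.1 - .C (MvPolynomial.constantCoeff q.1)) ∈ maximalIdeal T :=
    hle ((mem_org_iff A N).2 (by simp))
  rw [map_sub] at h2
  have hcu : IsUnit (f (.C (MvPolynomial.constantCoeff q.1))) :=
    ((IsLocalRing.notMem_maximalIdeal.1 fun h => q.2 ((mem_org_iff A N).2 h)).map MvPolynomial.C).map f
  refine (mem_maximalIdeal _).1 ?_ hcu
  simpa using (maximalIdeal T).sub_mem ((mem_maximalIdeal _).2 hn) h2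

section

variable {B₀ : Type u} [CommRing B₀] [Algebra A B₀] [Algebra.FinitePresentation A B₀]
  (P : Ideal B₀) [P.IsMaximal]
  {Bh : Type u} [CommRing Bh] [IsLocalRing Bh] [Algebra (Localization.AtPrime P) Bh]
  [IsLocalHom (algebraMap (Localization.AtPrime P) Bh)] [Hensel.IsHenselization (Localization.AtPrime P) Bh]
  [Algebra A Bh] [IsScalarTower A (Localization.AtPrime P) Bh]

local notation "B" => Localization.AtPrime P

/-- A system of elements generating the closed point gives a surjection. -/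
theorem exists_surj (y : Fin N → B)
    (hgen : maximalIdeal B = (maximalIdeal A).map (algebraMap A B) ⊔ Ideal.span (Set.range y))
    (hres : ∀ x : B, ∃ a : A, x - algebraMap A B a ∈ maximalIdeal B) :
    ∃ φ : HA A N →+* Bh, IsLocalHom φ ∧ Function.Surjective φ ∧
      ∀ p, φ (ι A N p) = algebraMap B Bh (MvPolynomial.aeval y p) := by
  let L := Loc A N
  let f : MvPolynomial (Fin N) A →+* B := (MvPolynomial.aeval y).toRingHom
  have hle : org A N ≤ (maximalIdeal B).comap f := by
    rw [org_eq]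
    refine sup_le (Ideal.map_le_iff_le_comap.2 fun a ha => ?_) (Ideal.span_le.2 ?_)
    · show f (MvPolynomial.C a) ∈ maximalIdeal B
      rw [hgen, show f (MvPolynomial.C a) = algebraMap A B a by simp [f]]
      exact Ideal.mem_sup_left (Ideal.mem_map_of_mem _ ha)
    · rintro _ ⟨i, rfl⟩
      show f (MvPolynomial.X i) ∈ maximalIdeal B
      rw [hgen, show f (MvPolynomial.X i) = y i by simp [f]]
      exact Ideal.mem_sup_right (Ideal.subset_span (Set.mem_range_self i))
  let φ₀ : L →+* B := IsLocalization.lift (isUnit_of_notMem_org f hle)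
  have hφ₀ : ∀ p, φ₀ (algebraMap _ L p) = f p := fun p => IsLocalization.lift_eq _ p
  have hm : (maximalIdeal L).map φ₀ = maximalIdeal B := by
    rw [← Localization.AtPrime.map_eq_maximalIdeal, Ideal.map_map,
      show φ₀.comp (algebraMap _ L) = f from RingHom.ext hφ₀]
    refine (congrArg (Ideal.map f) (org_eq A N)).trans ?_
    rw [hgen, VanCyc.originIdeal, Ideal.map_sup, Ideal.map_map, Ideal.map_span, ← Set.range_comp]
    congr 2
    · exact RingHom.ext fun a => by simp [f]
    · exact congrArg Set.range (funext fun i => by simp [f])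
  haveI : IsLocalHom φ₀ := ((local_hom_TFAE φ₀).out 2 0).mp hm.le
  haveI := (‹Hensel.IsHenselization B Bh›).henselian
  haveI : IsLocalHom ((algebraMap B Bh).comp φ₀) := RingHom.isLocalHom_comp _ _
  obtain ⟨g, hg, -⟩ := (Henz21.Henselization.isHenselization L).universal Bh ((algebraMap B Bh).comp φ₀)
    inferInstance
  haveI hgl : IsLocalHom g := by
    refine ((local_hom_TFAE g).out 2 0).mp ?_
    rw [← Henz21.henselization_map_maximalIdeal (R := L) (HA A N), Ideal.map_map, hg]
    exact ((local_hom_TFAE _).out 0 2).mp ‹IsLocalHom ((algebraMap B Bh).comp φ₀)›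
  haveI : Algebra.EssFiniteType A B := Algebra.EssFiniteType.comp A B₀ B
  refine ⟨g, hgl, surjective_of_structure («B» := A) φ₀ (RingHom.ext fun a => ?_) hm (fun x => ?_) g hg,
    fun p => (RingHom.congr_fun hg _).trans (congrArg (algebraMap B Bh) (hφ₀ p))⟩
  · rw [RingHom.comp_apply, IsScalarTower.algebraMap_apply A (MvPolynomial (Fin N) A) L, hφ₀]
    simp [f]
  · obtain ⟨a, ha⟩ := hres x
    exact ⟨algebraMap _ L (MvPolynomial.C a), by rw [hφ₀]; simpa [f] using ha⟩

/-- The kernel is finitely generated. -/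
theorem ker_fg (y : Fin N → B) (φ : HA A N →+* Bh) (hφl : IsLocalHom φ) (hφs : Function.Surjective φ)
    (hφ : ∀ p, φ (ι A N p) = algebraMap B Bh (MvPolynomial.aeval y p)) : (RingHom.ker φ).FG := by
  classical
  haveI := hφl
  obtain ⟨r, π₀, hπ₀, hπ₀k⟩ := Algebra.FinitePresentation.out (R := A) (A := B₀)
  let R := HA A N
  have hφκ : ∀ a, φ (κ A N a) = algebraMap A Bh a := fun a => by
    show φ (ι A N (MvPolynomial.C a)) = _
    rw [hφ, MvPolynomial.aeval_C, ← IsScalarTower.algebraMap_apply]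
  choose s hs using fun j => hφs (algebraMap B Bh (algebraMap B₀ B (π₀ (MvPolynomial.X j))))
  let ψ₀ : MvPolynomial (Fin r) A →+* R := MvPolynomial.eval₂Hom (κ A N) s
  have hψ₀ : ∀ p, φ (ψ₀ p) = algebraMap B Bh (algebraMap B₀ B (π₀ p)) := fun p => by
    show (φ.comp ψ₀) p = ((algebraMap B Bh).comp ((algebraMap B₀ B).comp π₀.toRingHom)) p
    refine RingHom.congr_fun (MvPolynomial.ringHom_ext (fun a => ?_) fun j => ?_) p
    · show φ (ψ₀ (MvPolynomial.C a)) = algebraMap B Bh (algebraMap B₀ B (π₀ (MvPolynomial.C a)))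
      rw [MvPolynomial.eval₂Hom_C, hφκ, ← MvPolynomial.algebraMap_eq, AlgHom.commutes,
        ← IsScalarTower.algebraMap_apply A B₀ B, ← IsScalarTower.algebraMap_apply]
    · show φ (ψ₀ (MvPolynomial.X j)) = _
      rw [MvPolynomial.eval₂Hom_X', hs]
      rfl
  choose nd hnd using fun i => IsLocalization.surj P.primeCompl (y i)
  choose nu hnu using fun i => hπ₀ (nd i).1
  choose de hde using fun i => hπ₀ ((nd i).2 : B₀)
  let rel : Fin N → R := fun i => ψ₀ (de i) * xv A N i - ψ₀ (nu i)
  let J : Ideal R := (RingHom.ker π₀.toRingHom).map ψ₀ ⊔ Ideal.span (Set.range rel)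
  have hJfg : J.FG := Submodule.FG.sup (Ideal.FG.map hπ₀k ψ₀) (Submodule.fg_span (Set.finite_range rel))
  have hJle : J ≤ RingHom.ker φ := by
    refine sup_le (Ideal.map_le_iff_le_comap.2 fun p hp => ?_) (Ideal.span_le.2 ?_)
    · show φ (ψ₀ p) = 0
      rw [hψ₀, show π₀ p = 0 from hp, map_zero, map_zero]
    · rintro _ ⟨i, rfl⟩
      show φ (ψ₀ (de i) * xv A N i - ψ₀ (nu i)) = 0
      rw [map_sub, map_mul, hψ₀, hψ₀, hde, hnu, show φ (xv A N i) = algebraMap B Bh (y i) from
        (hφ _).trans (by simp), ← map_mul, ← map_sub, mul_comm, hnd, sub_self, map_zero]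
  let π := Ideal.Quotient.mk J
  haveI : Nontrivial (R ⧸ J) := Ideal.Quotient.nontrivial_iff.2 fun h =>
    one_ne_zero (α := Bh) ((map_one φ).symm.trans (hJle (h ▸ Submodule.mem_top (x := (1 : R)))))
  haveI : IsLocalRing (R ⧸ J) := IsLocalRing.of_surjective' π Ideal.Quotient.mk_surjective
  haveI : HenselianLocalRing R := inferInstance
  haveI := EtAlg23.henselianLocalRing_of_surjective π Ideal.Quotient.mk_surjective
  haveI : IsLocalHom π := IsLocalHom.of_surjective _ Ideal.Quotient.mk_surjective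
  let ψ : R ⧸ J →+* Bh := Ideal.Quotient.lift J φ fun z hz => hJle hz
  haveI hψl : IsLocalHom ψ := ⟨fun z hz => by
    obtain ⟨z, rfl⟩ := Ideal.Quotient.mk_surjective z
    exact (isUnit_of_map_unit φ z hz).map π⟩
  let j₀ : B₀ →+* R ⧸ J := RingHom.liftOfSurjective π₀.toRingHom hπ₀ ⟨π.comp ψ₀, fun p hp =>
    Ideal.Quotient.eq_zero_iff_mem.2 (Ideal.mem_sup_left (Ideal.mem_map_of_mem _ hp))⟩
  have hj₀ : ∀ p, j₀ (π₀ p) = π (ψ₀ p) := fun p => RingHom.liftOfRightInverse_comp_apply π₀.toRingHom _ _ _ p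
  have hψj₀ : ∀ b, ψ (j₀ b) = algebraMap B Bh (algebraMap B₀ B b) := fun b => by
    obtain ⟨p, rfl⟩ := hπ₀ b
    rw [hj₀]
    exact hψ₀ p
  let j : B →+* R ⧸ J := IsLocalization.lift (M := P.primeCompl) (g := j₀) fun b =>
    isUnit_of_map_unit ψ _ (by rw [hψj₀]; exact (IsLocalization.map_units B b).map _)
  have hψj : ψ.comp j = algebraMap B Bh := IsLocalization.ringHom_ext P.primeCompl (RingHom.ext fun b => by
    show ψ (j (algebraMap B₀ B b)) = algebraMap B Bh (algebraMap B₀ B b)
    rw [IsLocalization.lift_eq, hψj₀])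
  have hjκ : ∀ a, j (algebraMap A B a) = π (κ A N a) := fun a => by
    rw [IsScalarTower.algebraMap_apply A B₀ B, IsLocalization.lift_eq, ← π₀.commutes a, hj₀]
    exact congrArg π (MvPolynomial.eval₂Hom_C _ _ _)
  have hjy : ∀ i, j (y i) = π (xv A N i) := fun i => by
    have hu : IsUnit (π (ψ₀ (de i))) := by
      rw [← hj₀, hde, ← IsLocalization.lift_eq (M := P.primeCompl) (S := B) (g := j₀)]
      exact (IsLocalization.map_units B (nd i).2).map j
    refine hu.mul_left_cancel ?_
    have h1 : π (ψ₀ (de i)) * π (xv A N i) = π (ψ₀ (nu i)) := by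
      rw [← map_mul]
      exact Ideal.Quotient.eq.2 (Ideal.mem_sup_right (Ideal.subset_span (Set.mem_range_self i)))
    rw [h1, ← hj₀, ← hj₀, hde, hnu, ← IsLocalization.lift_eq (M := P.primeCompl) (S := B) (g := j₀)]
    case hg => exact fun b => isUnit_of_map_unit ψ _ (by rw [hψj₀]; exact (IsLocalization.map_units B b).map _)
    show j _ * j (y i) = j₀ _
    rw [← map_mul, mul_comm, hnd, IsLocalization.lift_eq]
  have hb := Henz21.bijective_of_henselization (R := B) (S := Bh) j ψ hψj fun h hl hh => by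
    haveI := hl
    haveI : IsLocalHom (h.comp π) := RingHom.isLocalHom_comp h π
    refine Ideal.Quotient.ringHom_ext ?_
    refine hom_ext (h.comp π) π (fun a => ?_) fun i => ?_
    · show h (π (κ A N a)) = π (κ A N a)
      rw [← hjκ]
      exact RingHom.congr_fun hh _
    · show h (π (xv A N i)) = π (xv A N i)
      rw [← hjy]
      exact RingHom.congr_fun hh _
  have : RingHom.ker φ = J := le_antisymm (fun z hz => Ideal.Quotient.eq_zero_iff_mem.1
    (hb.1 ((show ψ (π z) = 0 from hz).trans (map_zero ψ).symm))) hJle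
  rw [this]
  exact hJfg

omit [Algebra.FinitePresentation A B₀] in
/-- The residue field of `B` is that of `B₀` at `P`. -/
theorem exists_sub_mem (x : B) : ∃ b : B₀, x - algebraMap B₀ B b ∈ maximalIdeal B := by
  obtain ⟨⟨b, d⟩, hbd⟩ := IsLocalization.surj P.primeCompl x
  obtain ⟨v, hv⟩ := Ideal.IsMaximal.exists_inv ‹P.IsMaximal› d.2
  obtain ⟨p, hp, hv⟩ := hv
  refine ⟨b * v, ?_⟩
  have h1 : (x - algebraMap B₀ B (b * v)) * algebraMap B₀ B d ∈ maximalIdeal B := by
    rw [sub_mul, hbd, ← map_mul, ← map_sub, IsLocalization.AtPrime.to_map_mem_maximal_iff B P,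
      show b - b * v * d = b * p by linear_combination (-b) * hv]
    exact P.mul_mem_left _ hp
  exact ((maximalIdeal.isMaximal B).isPrime.mem_or_mem h1).resolve_right fun h =>
    (mem_maximalIdeal _).1 h (IsLocalization.map_units B d)

/-- The closed fibre's residue field is algebraic and purely inseparable. -/
theorem exists_pow_sub_mem (hPi : ∀ y : B₀, ∃ (e : ℕ) (c : A),
      y ^ ringExpChar (ResidueField A) ^ e - algebraMap A B₀ c ∈ P) (x : B) :
    ∃ (e : ℕ) (c : A), x ^ ringExpChar (ResidueField A) ^ e - algebraMap A B c ∈ maximalIdeal B := by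
  obtain ⟨b, hb⟩ := exists_sub_mem P x
  obtain ⟨e, c, hc⟩ := hPi b
  refine ⟨e, c, ?_⟩
  rw [← sub_add_sub_cancel _ (algebraMap B₀ B (b ^ ringExpChar (ResidueField A) ^ e)) (algebraMap A B c)]
  refine add_mem ?_ ?_
  · rw [map_pow]
    exact Ideal.mem_of_dvd _ (sub_dvd_pow_sub_pow _ _ _) hb
  · rw [IsScalarTower.algebraMap_apply A B₀ B, ← map_sub, IsLocalization.AtPrime.to_map_mem_maximal_iff B P]
    exact hc

/-- Presentation of the henselization at a rational quadratic point, for a property `Pd` of the quadratic part. -/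
theorem exists_presentation' (hP : (maximalIdeal A).map (algebraMap A B₀) ≤ P)
    (hres : ∀ x : B, ∃ a : A, x - algebraMap A B a ∈ maximalIdeal B)
    [Module.Flat A B] (n : ℕ)
    (Pd : (Fin (n + 1) → Fin (n + 1) → AlgebraicClosure (ResidueField A)) → Prop) (hPd : ∀ a, Pd a → VanCyc.QuadOrd a)
    (hq : QuadPtWith (VanCyc.fibHom A B) n Pd) :
    ∃ (φ : HA A (n + 1) →+* Bh) (q : Fin (n + 1) → Fin (n + 1) → A) (F : HA A (n + 1)),
      Function.Surjective φ ∧ (∀ a, φ (κ A (n + 1) a) = algebraMap A Bh a) ∧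
      RingHom.ker φ = Ideal.span {F} ∧
      F - VanCyc.quadEval (fun i j => κ A (n + 1) (q i j)) (xv A (n + 1)) ∈
        (maximalIdeal A).map (κ A (n + 1)) ⊔ maximalIdeal (HA A (n + 1)) ^ 3 ∧
      ∃ (q' : Fin (n + 1) → Fin (n + 1) → AlgebraicClosure (ResidueField A))
        (L : Matrix (Fin (n + 1)) (Fin (n + 1)) (AlgebraicClosure (ResidueField A))) (v₀ : AlgebraicClosure (ResidueField A)),
        Pd q' ∧ v₀ ≠ 0 ∧ IsUnit L.det ∧
        (∀ x, VanCyc.quadEval (fun i j => algebraMap (ResidueField A) _ (residue A (q i j))) (L *ᵥ x) =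
          v₀ * VanCyc.quadEval q' x) ∧
        Lᵀ * VanCyc.polarMatrix (fun i j => algebraMap (ResidueField A) _ (residue A (q i j))) * L =
          v₀ • VanCyc.polarMatrix q' := by
  classical
  let k := ResidueField A
  let O := VanCyc.fibQuot A B
  letI algkO : Algebra k O := (VanCyc.fibHom A B).toAlgebra
  haveI : IsScalarTower A k O := IsScalarTower.of_algebraMap_eq fun a => rfl
  haveI : Algebra.EssFiniteType A B := Algebra.EssFiniteType.comp A B₀ B
  haveI : Algebra.EssFiniteType B O := inferInstanceAs (Algebra.EssFiniteType B (B ⧸ _))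
  haveI : Algebra.EssFiniteType A O := Algebra.EssFiniteType.comp A B O
  haveI : Algebra.EssFiniteType k O := Algebra.EssFiniteType.of_comp A k O
  let mB : Ideal B := (maximalIdeal A).map (algebraMap A B)
  have hmB : mB ≤ maximalIdeal B := by
    refine Ideal.map_le_iff_le_comap.2 fun a ha => ?_
    rw [Ideal.mem_comap, IsScalarTower.algebraMap_apply A B₀ B, IsLocalization.AtPrime.to_map_mem_maximal_iff B P]
    exact hP (Ideal.mem_map_of_mem _ ha)
  let πO : B →+* O := Ideal.Quotient.mk mB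
  have hπO : Function.Surjective πO := Ideal.Quotient.mk_surjective
  haveI : Nontrivial O := Ideal.Quotient.nontrivial_iff.2 fun h =>
    (maximalIdeal.isMaximal B).ne_top (top_le_iff.1 (h ▸ hmB))
  haveI : IsLocalRing O := IsLocalRing.of_surjective' πO hπO
  haveI : IsLocalHom πO := IsLocalHom.of_surjective _ hπO
  have hmO : ∀ {x : B}, πO x ∈ maximalIdeal O ↔ x ∈ maximalIdeal B := fun {x} => by
    simp only [mem_maximalIdeal, mem_nonunits_iff, isUnit_map_iff]
  have hkO : ∀ a : A, algebraMap k O (residue A a) = πO (algebraMap A B a) := fun a => rfl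
  have hresO : ∀ x : O, ∃ c : k, x - algebraMap k O c ∈ maximalIdeal O := fun x => by
    obtain ⟨x, rfl⟩ := hπO x
    obtain ⟨a, ha⟩ := hres x
    refine ⟨residue A a, ?_⟩
    rw [hkO, ← map_sub, hmO]
    exact ha
  -- the closed fibre of the henselization
  haveI hBh := (‹Hensel.IsHenselization B Bh›)
  haveI := hBh.henselian
  let Oh := Bh ⧸ mB.map (algebraMap B Bh)
  let πh : Bh →+* Oh := Ideal.Quotient.mk _
  have hπh : Function.Surjective πh := Ideal.Quotient.mk_surjective
  have hmBh : mB.map (algebraMap B Bh) ≤ maximalIdeal Bh :=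
    (Ideal.map_mono hmB).trans (((local_hom_TFAE (algebraMap B Bh)).out 0 2).mp ‹_›)
  haveI : Nontrivial Oh := Ideal.Quotient.nontrivial_iff.2 fun h =>
    (maximalIdeal.isMaximal Bh).ne_top (top_le_iff.1 (h ▸ hmBh))
  haveI : IsLocalRing Oh := IsLocalRing.of_surjective' πh hπh
  haveI : IsLocalHom πh := IsLocalHom.of_surjective _ hπh
  haveI : IsLocalHom (algebraMap O Oh) := by
    refine ⟨fun x hx => ?_⟩
    obtain ⟨x, rfl⟩ := hπO x
    exact (isUnit_of_map_unit (algebraMap B Bh) x (isUnit_of_map_unit πh _ hx)).map πO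
  haveI hOh : Hensel.IsHenselization O Oh := S13598.result mB hmB
  obtain ⟨q₀, y₀, hq₀, hy₀, hker₀⟩ := exists_field_hypersurface' (k := k) (Oh := Oh) (AlgebraicClosure k) hresO
    Pd hPd (fun M _ => hq M)
  choose y hy using fun i => hπO (y₀ i)
  have hgen : maximalIdeal B = mB ⊔ Ideal.span (Set.range y) := by
    refine le_antisymm (fun x hx => ?_) (sup_le hmB (Ideal.span_le.2 ?_))
    · have h1 : πO x ∈ (Ideal.span (Set.range y)).map πO := by
        rw [Ideal.map_span, ← Set.range_comp, show πO ∘ y = y₀ from funext hy, hy₀, hmO]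
        exact hx
      obtain ⟨z, hz, hzx⟩ := (Ideal.mem_map_iff_of_surjective _ hπO).1 h1
      rw [← sub_add_cancel x z]
      exact add_mem (Ideal.mem_sup_left (Ideal.Quotient.eq.1 hzx.symm)) (Ideal.mem_sup_right hz)
    · rintro _ ⟨i, rfl⟩
      rw [SetLike.mem_coe, ← hmO, hy, ← hy₀]
      exact Ideal.subset_span (Set.mem_range_self i)
  obtain ⟨φ, hφl, hφs, hφ⟩ := exists_surj (Bh := Bh) P y hgen hres
  haveI := hφl
  have hφκ : ∀ a, φ (κ A (n + 1) a) = algebraMap A Bh a := fun a => by
    show φ (ι A (n + 1) (MvPolynomial.C a)) = _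
    rw [hφ, MvPolynomial.aeval_C, ← IsScalarTower.algebraMap_apply]
  have hIA : ((maximalIdeal A).map (κ A (n + 1))).map φ = mB.map (algebraMap B Bh) := by
    rw [Ideal.map_map, Ideal.map_map, show φ.comp (κ A (n + 1)) = algebraMap A Bh from RingHom.ext hφκ,
      ← IsScalarTower.algebraMap_eq]
  obtain ⟨ρ, hρs, hρl, hρk, hρC, hρX⟩ := exists_fibre A (n + 1)
  haveI := hρl
  let g : Morse.HR k (n + 1) →+* Oh := RingHom.liftOfSurjective ρ hρs ⟨πh.comp φ, fun x hx => by
    rw [hρk] at hx
    show πh (φ x) = 0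
    exact Ideal.Quotient.eq_zero_iff_mem.2 (hIA ▸ Ideal.mem_map_of_mem φ hx)⟩
  have hg : ∀ x, g (ρ x) = πh (φ x) := fun x => RingHom.liftOfRightInverse_comp_apply ρ _ _ _ x
  have hgι : ∀ p, g (Morse.ι k (n + 1) p) = algebraMap O Oh (MvPolynomial.aeval y₀ p) := by
    intro p
    show (g.comp (Morse.ι k (n + 1))) p = ((algebraMap O Oh).comp (MvPolynomial.aeval y₀).toRingHom) p
    refine RingHom.congr_fun (MvPolynomial.ringHom_ext (fun c => ?_) fun i => ?_) p
    · obtain ⟨a, rfl⟩ := residue_surjective c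
      show g (Morse.ι k (n + 1) (.C (residue A a))) = algebraMap O Oh (MvPolynomial.aeval y₀ (.C (residue A a)))
      rw [← hρC, hg, hφκ, MvPolynomial.aeval_C, hkO, IsScalarTower.algebraMap_apply A B Bh]
      rfl
    · show g (Morse.ι k (n + 1) (.X i)) = algebraMap O Oh (MvPolynomial.aeval y₀ (.X i))
      rw [← hρX, hg, show φ (xv A (n + 1) i) = algebraMap B Bh (y i) from (hφ _).trans (by simp),
        MvPolynomial.aeval_X, ← hy]
      rfl
  have hgs : Function.Surjective g := fun z => by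
    obtain ⟨b, rfl⟩ := hπh z
    obtain ⟨x, rfl⟩ := hφs b
    exact ⟨ρ x, hg x⟩
  have hgl : IsLocalHom g := ⟨fun z hz => by
    obtain ⟨x, rfl⟩ := hρs z
    rw [hg] at hz
    exact (isUnit_of_map_unit φ x (isUnit_of_map_unit πh _ hz)).map ρ⟩
  obtain ⟨F₀, hF₀, hF₀q⟩ := hker₀ g hgl hgs hgι
  -- lifting the equation
  obtain ⟨F₁, hF₁⟩ := hρs F₀
  have hF₁' : φ F₁ ∈ ((maximalIdeal A).map (κ A (n + 1))).map φ := by
    rw [hIA, ← Ideal.Quotient.eq_zero_iff_mem]
    show πh (φ F₁) = 0
    rw [← hg, hF₁]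
    exact (hF₀.ge (Ideal.mem_span_singleton_self F₀) : _)
  obtain ⟨h, hh, hhF⟩ := (Ideal.mem_map_iff_of_surjective φ hφs).1 hF₁'
  let F := F₁ - h
  have hFI : F ∈ RingHom.ker φ := by rw [RingHom.mem_ker, map_sub, hhF, sub_self]
  have hρF : ρ F = F₀ := by
    rw [map_sub, hF₁, show ρ h = 0 from hρk.ge hh, sub_zero]
  have hker : RingHom.ker φ = Ideal.span {F} := by
    refine eq_span_of_le_sup (ker_fg P y φ hφl hφs hφ)
      (Ideal.map_le_iff_le_comap.2 fun a ha => κ_mem A (n + 1) ha) hFI fun z hz => ?_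
    have h1 : ρ z ∈ RingHom.ker g := by
      rw [RingHom.mem_ker, hg, show φ z = 0 from hz, map_zero]
    rw [hF₀] at h1
    obtain ⟨w, hw⟩ := Ideal.mem_span_singleton'.1 h1
    obtain ⟨w, rfl⟩ := hρs w
    rw [← add_sub_cancel (w * F) z]
    refine Submodule.add_mem_sup (Ideal.mul_mem_left _ _ (Ideal.mem_span_singleton_self F)) ?_
    letI : Algebra A (HA A (n + 1)) := (κ A (n + 1)).toAlgebra
    haveI : Module.Flat A (HA A (n + 1) ⧸ RingHom.ker φ) := by
      haveI : Module.FaithfullyFlat B Bh := Henz21.henselization_faithfullyFlat Bh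
      haveI : Module.Flat A Bh := Module.Flat.trans A B Bh
      let φA : HA A (n + 1) →ₐ[A] Bh := { φ with commutes' := hφκ }
      exact Module.Flat.of_linearEquiv (Ideal.quotientKerAlgEquivOfSurjective (f := φA) hφs).toLinearEquiv
    refine inf_le_mul_of_flat (RingHom.ker φ) (maximalIdeal A) ⟨sub_mem hz (Ideal.mul_mem_left _ _ hFI), ?_⟩
    show z - w * F ∈ (maximalIdeal A).map (κ A (n + 1))
    rw [← hρk, RingHom.mem_ker, map_sub, map_mul, hρF, hw, sub_self]
  -- the quadratic part
  choose q hqres using fun i j => residue_surjective (R := A) (q₀ i j)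
  refine ⟨φ, q, F, hφs, hφκ, hker, ?_, ?_⟩
  · have h1 : ρ (F - VanCyc.quadEval (fun i j => κ A (n + 1) (q i j)) (xv A (n + 1))) ∈
        (maximalIdeal (HA A (n + 1)) ^ 3).map ρ := by
      rw [Ideal.map_pow, Morse.map_maximalIdeal_of_surjective ρ hρs, map_sub, hρF, QS97.map_quadEval]
      refine (congrArg (fun t => F₀ - t ∈ _) ?_).mpr hF₀q
      rw [QS97.quadPoly_eq_quadEval, QS97.map_quadEval]
      exact congrArg₂ VanCyc.quadEval (funext fun i => funext fun j => by rw [hρC, hqres]) (funext hρX)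
    obtain ⟨e, he, he'⟩ := (Ideal.mem_map_iff_of_surjective ρ hρs).1 h1
    rw [← sub_add_cancel (F - _) e]
    refine add_mem (Ideal.mem_sup_left (hρk.le ?_)) (Ideal.mem_sup_right he)
    rw [RingHom.mem_ker, map_sub, he', sub_self]
  · obtain ⟨q', L, v0, h1, h2, h3, h4, h5⟩ := hq₀
    refine ⟨q', L, v0, h1, h2, h3, ?_, ?_⟩
    · simpa only [hqres] using h4
    · simpa only [hqres] using h5

/-- Presentation at a non-degenerate point. -/
theorem exists_presentation (hP : (maximalIdeal A).map (algebraMap A B₀) ≤ P)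
    (hPi : ∀ y : B₀, ∃ (e : ℕ) (c : A), y ^ ringExpChar (ResidueField A) ^ e - algebraMap A B₀ c ∈ P)
    [Module.Flat A B] (n : ℕ) (hq : VanCyc.IsNondegQuadPt (VanCyc.fibHom A B) n) :
    ∃ (φ : HA A (n + 1) →+* Bh) (q : Fin (n + 1) → Fin (n + 1) → A) (F : HA A (n + 1)),
      Function.Surjective φ ∧ (∀ a, φ (κ A (n + 1) a) = algebraMap A Bh a) ∧ VanCyc.QuadNondeg q ∧
      RingHom.ker φ = Ideal.span {F} ∧
      F - VanCyc.quadEval (fun i j => κ A (n + 1) (q i j)) (xv A (n + 1)) ∈
        (maximalIdeal A).map (κ A (n + 1)) ⊔ maximalIdeal (HA A (n + 1)) ^ 3 := by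
  classical
  let k := ResidueField A
  let O := VanCyc.fibQuot A B
  letI algkO : Algebra k O := (VanCyc.fibHom A B).toAlgebra
  haveI : IsScalarTower A k O := IsScalarTower.of_algebraMap_eq fun a => rfl
  haveI : Algebra.EssFiniteType A B := Algebra.EssFiniteType.comp A B₀ B
  haveI : Algebra.EssFiniteType B O := inferInstanceAs (Algebra.EssFiniteType B (B ⧸ _))
  haveI : Algebra.EssFiniteType A O := Algebra.EssFiniteType.comp A B O
  haveI : Algebra.EssFiniteType k O := Algebra.EssFiniteType.of_comp A k O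
  let mB : Ideal B := (maximalIdeal A).map (algebraMap A B)
  have hmB : mB ≤ maximalIdeal B := by
    refine Ideal.map_le_iff_le_comap.2 fun a ha => ?_
    rw [Ideal.mem_comap, IsScalarTower.algebraMap_apply A B₀ B, IsLocalization.AtPrime.to_map_mem_maximal_iff B P]
    exact hP (Ideal.mem_map_of_mem _ ha)
  let πO : B →+* O := Ideal.Quotient.mk mB
  have hπO : Function.Surjective πO := Ideal.Quotient.mk_surjective
  haveI : Nontrivial O := Ideal.Quotient.nontrivial_iff.2 fun h =>
    (maximalIdeal.isMaximal B).ne_top (top_le_iff.1 (h ▸ hmB))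
  haveI : IsLocalRing O := IsLocalRing.of_surjective' πO hπO
  haveI : IsLocalHom πO := IsLocalHom.of_surjective _ hπO
  have hmO : ∀ {x : B}, πO x ∈ maximalIdeal O ↔ x ∈ maximalIdeal B := fun {x} => by
    simp only [mem_maximalIdeal, mem_nonunits_iff, isUnit_map_iff]
  have hkO : ∀ a : A, algebraMap k O (residue A a) = πO (algebraMap A B a) := fun a => rfl
  have hresO : ∀ x : O, ∃ c : k, x - algebraMap k O c ∈ maximalIdeal O := by
    refine exists_rational (K := AlgebraicClosure k) (n := n) (fun M _ => hq M) fun x => ?_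
    obtain ⟨x, rfl⟩ := hπO x
    obtain ⟨e, c, hc⟩ := exists_pow_sub_mem P hPi x
    refine ⟨e, residue A c, ?_⟩
    rw [hkO, ← map_pow, ← map_sub, hmO]
    exact hc
  have hres : ∀ x : B, ∃ a : A, x - algebraMap A B a ∈ maximalIdeal B := fun x => by
    obtain ⟨c, hc⟩ := hresO (πO x)
    obtain ⟨a, rfl⟩ := residue_surjective c
    refine ⟨a, hmO.1 ?_⟩
    rw [map_sub, ← hkO]
    exact hc
  obtain ⟨φ, q, F, hφs, hφκ, hker, hF, q', L, v0, hnd, hv0, -, -, hPL⟩ :=
    exists_presentation' (Bh := Bh) P hP hres n VanCyc.QuadNondeg (fun _ => quadOrd_of_nondeg) (fun M _ => hq M)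
  refine ⟨φ, q, F, hφs, hφκ, ?_, hker, hF⟩
  have hdetP := congrArg Matrix.det hPL
  rw [Matrix.det_mul, Matrix.det_mul, Matrix.det_transpose, Matrix.det_smul] at hdetP
  refine isUnit_of_map_unit ((algebraMap k (AlgebraicClosure k)).comp (residue A)) _ (isUnit_iff_ne_zero.2 fun h0 => ?_)
  rw [RingHom.map_det, RingHom.mapMatrix_apply, ← QS97.polarMatrix_map] at h0
  rw [show (fun i j => algebraMap k (AlgebraicClosure k) (residue A (q i j))) =
    fun i j => ((algebraMap k (AlgebraicClosure k)).comp (residue A)) (q i j) from rfl, h0, mul_zero, zero_mul] at hdetP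
  exact mul_ne_zero (pow_ne_zero _ hv0) (isUnit_iff_ne_zero.1 hnd) hdetP.symm

end

end Groth.Agent.An92.MorseA
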