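import Groth.Agent.An92.MorseA.Chart
import Mathlib.FieldTheory.PurelyInseparable.Basic
import Mathlib.RingTheory.Unramified.Field
import Mathlib.RingTheory.Kaehler.Basic
import Mathlib.FieldTheory.IsAlgClosed.Basic

/-! Non-degenerate quadratic points with purely inseparable residue field are rational. -/

set_option autoImplicit false
set_option linter.style.haveILetI false

universe u

open IsLocalRing Matrix
open scoped TensorProduct

namespace Groth.Agent.An92.MorseA

theorem quadEval_sub_mem {R : Type u} [CommRing R] {n : ℕ} (I : Ideal R) (c : Fin n → Fin n → R)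
    (x y : Fin n → R) (hx : ∀ i, x i ∈ I) (hy : ∀ i, y i ∈ I) (hxy : ∀ i, x i - y i ∈ I ^ 2) :
    VanCyc.quadEval c x - VanCyc.quadEval c y ∈ I ^ 3 := by
  simp only [VanCyc.quadEval, ← Finset.sum_sub_distrib]
  refine sum_mem fun i _ => sum_mem fun j _ => ?_
  split
  · rw [show c i j * x i * x j - c i j * y i * y j =
      c i j * ((x i - y i) * x j + y i * (x j - y j)) by ring]
    refine Ideal.mul_mem_left _ _ (add_mem ?_ ?_)
    · rw [pow_succ]; exact Ideal.mul_mem_mul (hxy i) (hx j)
    · rw [pow_succ']; exact Ideal.mul_mem_mul (hy i) (hxy j)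
  · simp

/-- A derivation of a quadratic form with constant coefficients. -/
theorem deriv_quadEval {K T : Type u} [Field K] [CommRing T] [Algebra K T] {Λ : Type u} [CommRing Λ]
    [Algebra K Λ] (π : T →ₐ[K] Λ) (D : T →ₗ[K] Λ) (hD : ∀ a b, D (a * b) = π a * D b + π b * D a)
    {n : ℕ} (c : Fin n → Fin n → K) (t : Fin n → T) :
    D (VanCyc.quadEval (fun i j => algebraMap K T (c i j)) t) =
      ∑ i, D (t i) * ∑ j, algebraMap K Λ (VanCyc.polarMatrix c i j) * π (t j) := by
  rw [QS97.quadEval_eq_upper]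
  have h1 : ∀ i j, QS97.upper (fun a b => algebraMap K T (c a b)) i j = algebraMap K T (QS97.upper c i j) := fun i j => by
    simp only [QS97.upper]; split <;> simp
  simp only [h1, map_sum, mul_assoc, ← Algebra.smul_def, map_smul, hD, smul_add, Finset.sum_add_distrib]
  simp only [Algebra.smul_def, QS97.polarMatrix_eq_upper, map_add, add_mul, Finset.sum_add_distrib,
    Finset.mul_sum, mul_add]
  rw [add_comm]
  congr 1
  · exact Finset.sum_congr rfl fun i _ => Finset.sum_congr rfl fun j _ => by ring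
  · rw [Finset.sum_comm]
    exact Finset.sum_congr rfl fun i _ => Finset.sum_congr rfl fun j _ => by ring

variable {k : Type u} [Field k] (K : Type u) [Field K] [Algebra k K] {O : Type u} [CommRing O] [Algebra k O]

/-- Extension of a derivation to a base change. -/
theorem exists_deriv_ext {Λ : Type u} [CommRing Λ] [Algebra K Λ] [Algebra k Λ] [IsScalarTower k K Λ]
    (π : K ⊗[k] O →ₐ[K] Λ) (D₀ : O →ₗ[k] Λ)
    (hD₀ : ∀ a b, D₀ (a * b) = π (1 ⊗ₜ a) * D₀ b + π (1 ⊗ₜ b) * D₀ a) :
    ∃ D : K ⊗[k] O →ₗ[K] Λ, (∀ o, D (1 ⊗ₜ o) = D₀ o) ∧ ∀ a b, D (a * b) = π a * D b + π b * D a := by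
  let D := LinearMap.liftBaseChange K D₀
  refine ⟨D, fun o => by simp [D], fun a b => ?_⟩
  induction a using TensorProduct.induction_on with
  | zero => simp
  | add x y hx hy => simp only [add_mul, map_add, hx, hy]; ring
  | tmul c o =>
    induction b using TensorProduct.induction_on with
    | zero => simp
    | add x y hx hy => simp only [mul_add, map_add, hx, hy]; ring
    | tmul c' o' =>
      have hc : ∀ (r : K) (z : O), π (r ⊗ₜ z) = algebraMap K Λ r * π (1 ⊗ₜ z) := fun r z => by
        rw [← Algebra.smul_def, ← map_smul, TensorProduct.smul_tmul', smul_eq_mul, mul_one]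
      simp only [D, Algebra.TensorProduct.tmul_mul_tmul, LinearMap.liftBaseChange_tmul, hD₀, hc c o, hc c' o',
        Algebra.smul_def, map_mul]
      ring

set_option maxHeartbeats 1000000 in
/-- A non-degenerate quadratic point with purely inseparable residue field is rational. -/
theorem exists_rational [IsAlgClosed K] [IsLocalRing O] [Algebra.EssFiniteType k O] {n : ℕ}
    (hq : ∀ (M : Ideal (K ⊗[k] O)) [M.IsMaximal], VanCyc.IsNondegQuadSing K (Localization.AtPrime M) n)
    (hrad : ∀ x : O, ∃ (e : ℕ) (c : k), x ^ ringExpChar k ^ e - algebraMap k O c ∈ maximalIdeal O) :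
    ∀ x : O, ∃ c : k, x - algebraMap k O c ∈ maximalIdeal O := by
  classical
  let L := O ⧸ maximalIdeal O
  letI : Field L := Ideal.Quotient.field _
  haveI : IsPurelyInseparable k L := (isPurelyInseparable_iff_pow_mem k (ringExpChar k)).2 fun x => by
    obtain ⟨x, rfl⟩ := Ideal.Quotient.mk_surjective x
    obtain ⟨e, c, hc⟩ := hrad x
    refine ⟨e, c, ?_⟩
    rw [← map_pow, IsScalarTower.algebraMap_apply k O L]
    exact (Ideal.Quotient.eq.2 hc).symm
  haveI : Algebra.IsAlgebraic k L := inferInstance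
  let ω : L →ₐ[k] K := IsAlgClosed.lift
  let res : O →ₐ[k] L := Ideal.Quotient.mkₐ k _
  let σ : K ⊗[k] O →ₐ[K] K := Algebra.TensorProduct.lift (Algebra.ofId K K) (ω.comp res) fun _ _ => Commute.all _ _
  have hσ : Function.Surjective σ := fun c => ⟨c ⊗ₜ 1, by simp [σ]⟩
  let M : Ideal (K ⊗[k] O) := RingHom.ker σ.toRingHom
  haveI : M.IsMaximal := RingHom.ker_isMaximal_of_surjective _ hσ
  obtain ⟨q, f, ε, t, hnd, -, hfq, hf2, hε, ht⟩ := exists_chart (K ⊗[k] O) M (hq M)
  let P := MvPowerSeries (Fin (n + 1)) K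
  let mS : Ideal (P ⧸ Ideal.span {f}) := (maximalIdeal P).map (Ideal.Quotient.mk (Ideal.span {f}))
  -- linear coefficients
  let lift : K ⊗[k] O → P := fun x => (Ideal.Quotient.mk_surjective (ε x)).choose
  have hlift : ∀ x, Ideal.Quotient.mk _ (lift x) = ε x := fun x => (Ideal.Quotient.mk_surjective (ε x)).choose_spec
  have hspan : Ideal.span {f} ≤ maximalIdeal P ^ 2 := (Ideal.span_singleton_le_iff_mem _).2 hf2
  let L1 : K ⊗[k] O → (Fin (n + 1) → K) := fun x => lc (lift x)
  have hL : ∀ x a, Ideal.Quotient.mk _ a = ε x → L1 x = lc a := fun x a ha => by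
    have := lc_of_mem_sq (hspan (Ideal.Quotient.eq.1 ((hlift x).trans ha.symm)))
    rwa [lc_sub, sub_eq_zero] at this
  have hM1 : ∀ x a, Ideal.Quotient.mk _ a = ε x → MvPowerSeries.constantCoeff a = σ x := fun x a ha => by
    have hxM : x - algebraMap K _ (σ x) ∈ M ^ 1 := by
      rw [pow_one]
      show σ (x - algebraMap K _ (σ x)) = 0
      rw [map_sub, AlgHom.commutes]
      exact sub_self _
    have h2 := (hε 1 _).2 hxM
    rw [pow_one, map_sub, AlgHom.commutes, ← ha, ← Ideal.Quotient.mk_algebraMap, ← map_sub] at h2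
    obtain ⟨b, hb, hb'⟩ := (Ideal.mem_map_iff_of_surjective _ Ideal.Quotient.mk_surjective).1 h2
    have h3 : a - algebraMap K P (σ x) - b ∈ maximalIdeal P :=
      Ideal.pow_le_self two_ne_zero (hspan (Ideal.Quotient.eq.1 hb'.symm))
    have h4 := CAlg6.mem_maximalIdeal_iff.1 (add_mem h3 hb)
    rw [sub_add_cancel, map_sub, MvPowerSeries.algebraMap_apply, MvPowerSeries.constantCoeff_C, sub_eq_zero] at h4
    exact h4
  have hmul : ∀ a b, L1 (a * b) = σ a • L1 b + σ b • L1 a := fun a b => by
    rw [hL (a * b) (lift a * lift b) (by rw [map_mul, hlift, hlift, map_mul]), lc_mul,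
      hM1 a _ (hlift a), hM1 b _ (hlift b)]
  have hsmul : ∀ (c : K) a, L1 (algebraMap K _ c * a) = c • L1 a := fun c a => by
    rw [hL _ (algebraMap K P c * lift a) (by
      rw [map_mul, Ideal.Quotient.mk_algebraMap, hlift, map_mul, AlgHom.commutes])]
    exact lc_C_mul c _
  have hadd : ∀ a b, L1 (a + b) = L1 a + L1 b := fun a b => by
    rw [hL (a + b) (lift a + lift b) (by rw [map_add, hlift, hlift, map_add]), lc_add]
  have ht1 : ∀ i, L1 (t i) = Pi.single i 1 := fun i => by
    obtain ⟨b, hb, hb'⟩ := (Ideal.mem_map_iff_of_surjective _ Ideal.Quotient.mk_surjective).1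
      (show ε (t i) - Ideal.Quotient.mk _ (MvPowerSeries.X i) ∈ ((maximalIdeal P) ^ 2).map (Ideal.Quotient.mk _) by
        rw [Ideal.map_pow]; exact ht i)
    rw [hL (t i) (MvPowerSeries.X i + b) (by rw [map_add, hb', add_sub_cancel]), lc_add, lc_of_mem_sq hb, add_zero, lc_X]
  have htM : ∀ i, t i ∈ M := fun i => by
    rw [← pow_one M, ← hε, pow_one]
    have h1 := Ideal.pow_le_self two_ne_zero (ht i)
    have h2 : Ideal.Quotient.mk (Ideal.span {f}) (MvPowerSeries.X i) ∈ mS :=
      Ideal.mem_map_of_mem _ (CAlg6.mem_maximalIdeal_iff.2 (MvPowerSeries.constantCoeff_X i))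
    simpa using add_mem h1 h2
  -- the closed fibre
  let mT : Ideal (K ⊗[k] O) := (maximalIdeal O).map Algebra.TensorProduct.includeRight.toRingHom
  let π : K ⊗[k] O →ₐ[K] (K ⊗[k] O) ⧸ mT := Ideal.Quotient.mkₐ K mT
  have hmTM : mT ≤ M := Ideal.map_le_iff_le_comap.2 fun o ho => by
    show σ ((1 : K) ⊗ₜ o) = 0
    simp [σ, res]
    exact Ideal.Quotient.eq_zero_iff_mem.2 ho
  let σb : (K ⊗[k] O) ⧸ mT →ₐ[K] K := Ideal.Quotient.liftₐ mT σ fun x hx => hmTM hx
  let iL : L →+* (K ⊗[k] O) ⧸ mT := Ideal.Quotient.lift (maximalIdeal O)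
    (π.toRingHom.comp Algebra.TensorProduct.includeRight.toRingHom)
    fun o ho => Ideal.Quotient.eq_zero_iff_mem.2 (Ideal.mem_map_of_mem _ ho)
  have hσiL : ∀ l, σb (iL l) = ω l := fun l => by
    obtain ⟨o, rfl⟩ := Ideal.Quotient.mk_surjective l
    show σ ((1 : K) ⊗ₜ o) = _
    simp [σ, res]
    rfl
  letI : Module L K := Module.compHom K ω.toRingHom
  letI : Module L ((K ⊗[k] O) ⧸ mT) := Module.compHom _ iL
  let σL : (K ⊗[k] O) ⧸ mT →ₗ[L] K :=
    { toFun := σb
      map_add' := map_add σb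
      map_smul' := fun l x => by
        show σb (iL l * x) = ω l * σb x
        rw [map_mul, hσiL] }
  obtain ⟨s, hs⟩ := σL.exists_rightInverse_of_surjective (LinearMap.range_eq_top.2 fun c => by
    obtain ⟨z, hz⟩ := hσ c
    exact ⟨π z, hz⟩)
  have hkerσ : ∀ z, σb z = 0 → z ∈ M.map π.toRingHom := fun z hz => by
    obtain ⟨x, rfl⟩ := Ideal.Quotient.mk_surjective z
    exact Ideal.mem_map_of_mem π.toRingHom (show x ∈ M from hz)
  have hD : ∀ i, ∃ D : K ⊗[k] O →ₗ[K] (K ⊗[k] O) ⧸ mT, (∀ a b, D (a * b) = π a * D b + π b * D a) ∧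
      ∀ x, σb (D x) = L1 x i := fun i => by
    let D₀ : O →ₗ[k] (K ⊗[k] O) ⧸ mT :=
      { toFun := fun o => s (L1 (1 ⊗ₜ o) i)
        map_add' := fun a b => by rw [TensorProduct.tmul_add, hadd, Pi.add_apply, map_add]
        map_smul' := fun c o => by
          have h1 : L1 (1 ⊗ₜ (c • o)) i = ω (algebraMap k L c) * L1 (1 ⊗ₜ o) i := by
            rw [← TensorProduct.smul_tmul, show ((c • (1 : K)) ⊗ₜ[k] o : K ⊗[k] O) =
              algebraMap K _ (algebraMap k K c) * (1 ⊗ₜ o) by
                simp [Algebra.smul_def, Algebra.TensorProduct.algebraMap_apply], hsmul, AlgHom.commutes]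
            rfl
          rw [h1]
          show s (algebraMap k L c • L1 (1 ⊗ₜ o) i) = _
          rw [map_smul]
          show iL (algebraMap k L c) * _ = c • _
          refine Eq.trans ?_ (Algebra.smul_def (R := k) (A := (K ⊗[k] O) ⧸ mT) c (s (L1 (1 ⊗ₜ o) i))).symm
          congr 1
          show π ((1 : K) ⊗ₜ algebraMap k O c) = _
          rw [Algebra.algebraMap_eq_smul_one, ← TensorProduct.smul_tmul, IsScalarTower.algebraMap_apply k K,
            ← π.commutes, Algebra.TensorProduct.algebraMap_apply, Algebra.algebraMap_eq_smul_one]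
          simp [Algebra.smul_def] }
    obtain ⟨D, hD₁, hD₂⟩ := exists_deriv_ext K π D₀ fun a b => by
      show s (L1 (1 ⊗ₜ (a * b)) i) = _
      rw [show ((1 : K) ⊗ₜ[k] (a * b) : K ⊗[k] O) = (1 ⊗ₜ a) * (1 ⊗ₜ b) by simp, hmul]
      have hσ1 : ∀ o, σ ((1 : K) ⊗ₜ o) = ω (res o) := fun o => by simp [σ]
      simp only [Pi.add_apply, Pi.smul_apply, hσ1, smul_eq_mul]
      show s (res a • L1 (1 ⊗ₜ b) i + res b • L1 (1 ⊗ₜ a) i) = _
      rw [map_add, map_smul, map_smul]
      rfl
    refine ⟨D, hD₂, fun x => ?_⟩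
    induction x using TensorProduct.induction_on with
    | zero =>
      have h0 : L1 0 = 0 := by rw [hL 0 0 (by simp)]; exact lc_of_mem_sq (zero_mem _)
      simp [h0]
    | add a b ha hb => rw [map_add, map_add, ha, hb, hadd, Pi.add_apply]
    | tmul c o =>
      rw [show (c ⊗ₜ[k] o : K ⊗[k] O) = algebraMap K _ c * (1 ⊗ₜ o) by
        simp [Algebra.TensorProduct.algebraMap_apply], hsmul, ← Algebra.smul_def, map_smul, hD₁, map_smul]
      exact congrArg (c • ·) (LinearMap.congr_fun hs _)
  choose D hDmul hDσ using hD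
  let MΛ : Ideal ((K ⊗[k] O) ⧸ mT) := M.map π.toRingHom
  have hDpow : ∀ i (j : ℕ) x, x ∈ M ^ (j + 1) → D i x ∈ MΛ ^ j := fun i j => by
    induction j with
    | zero => intro x _; simp
    | succ j ih =>
      intro x hx
      rw [pow_succ'] at hx
      refine Submodule.mul_induction_on hx (fun b hb c hc => ?_) fun b c hb hc => ?_
      · rw [hDmul]
        refine add_mem ?_ (Ideal.mul_mem_right _ _ ?_)
        · exact (pow_succ' MΛ j).symm ▸ Ideal.mul_mem_mul (Ideal.mem_map_of_mem π.toRingHom hb) (ih c hc)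
        · rw [← Ideal.map_pow]; exact Ideal.mem_map_of_mem π.toRingHom hc
      · rw [map_add]; exact add_mem hb hc
  let Q : K ⊗[k] O := VanCyc.quadEval (fun i j => algebraMap K _ (q i j)) t
  have hQ : Q ∈ M ^ 3 := by
    rw [← hε, QS97.map_quadEval]
    simp only [AlgHom.commutes]
    have h1 := quadEval_sub_mem mS (fun i j => algebraMap K _ (q i j)) (fun i => ε (t i))
      (fun i => Ideal.Quotient.mk _ (MvPowerSeries.X i))
      (fun i => by rw [← pow_one mS]; exact (hε 1 _).2 (by rw [pow_one]; exact htM i))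
      (fun i => Ideal.mem_map_of_mem _ (CAlg6.mem_maximalIdeal_iff.2 (MvPowerSeries.constantCoeff_X i))) ht
    have h2 : VanCyc.quadEval (fun i j => algebraMap K _ (q i j))
        (fun i => Ideal.Quotient.mk (Ideal.span {f}) (MvPowerSeries.X i)) ∈ mS ^ 3 := by
      have h4 := Ideal.mem_map_of_mem (Ideal.Quotient.mk (Ideal.span {f})) (neg_mem hfq)
      rw [Ideal.map_pow, neg_sub, map_sub, Ideal.Quotient.eq_zero_iff_mem.2 (Ideal.mem_span_singleton_self f),
        sub_zero, QS97.coe_quadPoly, QS97.map_quadEval] at h4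
      exact h4
    exact (Submodule.sub_mem_iff_left _ h2).1 h1
  let Pm := VanCyc.polarMatrix q
  have hPt : ∀ i, ∑ j, algebraMap K _ (Pm i j) * t j ∈ M ^ 2 ⊔ mT := fun i => by
    have h1 := hDpow i 2 Q hQ
    rw [deriv_quadEval π (D i) (hDmul i) q t] at h1
    have h2 : ∀ l, D i (t l) - (Pi.single l 1 : Fin (n + 1) → K) i • 1 ∈ MΛ := fun l => hkerσ _ (by
      rw [map_sub, hDσ, ht1, map_smul, map_one, smul_eq_mul, mul_one, sub_self])
    have hu : ∀ l, ∑ j, algebraMap K ((K ⊗[k] O) ⧸ mT) (Pm l j) * π (t j) ∈ MΛ := fun l =>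
      sum_mem fun j _ => Ideal.mul_mem_left _ _ (Ideal.mem_map_of_mem π.toRingHom (htM j))
    have h3 : ∑ j, algebraMap K _ (Pm i j) * π (t j) ∈ MΛ ^ 2 := by
      have h5 : ∑ l, (D i (t l) - (Pi.single l 1 : Fin (n + 1) → K) i • 1) *
          ∑ j, algebraMap K _ (Pm l j) * π (t j) ∈ MΛ ^ 2 :=
        sum_mem fun l _ => by rw [pow_two]; exact Ideal.mul_mem_mul (h2 l) (hu l)
      simp only [sub_mul, Finset.sum_sub_distrib] at h5
      have h6 := sub_mem h1 h5
      rw [sub_sub_cancel, Finset.sum_eq_single i] at h6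
      · simpa using h6
      · intro l _ hl
        simp [Pi.single_apply, hl.symm]
      · simp
    rw [← Ideal.map_pow] at h3
    have h7 : π.toRingHom (∑ j, algebraMap K _ (Pm i j) * t j) ∈ (M ^ 2).map π.toRingHom := by
      have e : π.toRingHom (∑ j, algebraMap K _ (Pm i j) * t j) = ∑ j, algebraMap K _ (Pm i j) * π (t j) := by
        show π _ = _
        rw [map_sum]
        exact Finset.sum_congr rfl fun j _ => by rw [map_mul, AlgHom.commutes]
      rw [e]; exact h3
    have := Ideal.comap_map_of_surjective π.toRingHom Ideal.Quotient.mk_surjective (M ^ 2)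
    rw [← Ideal.mem_comap, this] at h7
    refine (show _ ≤ M ^ 2 ⊔ mT from sup_le le_sup_left ?_) h7
    intro x hx
    exact Ideal.mem_sup_right (Ideal.Quotient.eq_zero_iff_mem.1 (show π x = 0 from hx))
  have htJ : ∀ i, t i ∈ M ^ 2 ⊔ mT := fun i => by
    let PT : Matrix (Fin (n + 1)) (Fin (n + 1)) (K ⊗[k] O) := Pm.map (algebraMap K _)
    have hdet : IsUnit PT.det := by
      have := hnd.map (algebraMap K (K ⊗[k] O))
      rwa [RingHom.map_det] at this
    have hx : t i = ∑ b, PT⁻¹ i b * (PT *ᵥ t) b := by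
      show _ = (PT⁻¹ *ᵥ (PT *ᵥ t)) i
      rw [Matrix.mulVec_mulVec, Matrix.nonsing_inv_mul _ hdet, Matrix.one_mulVec]
    rw [hx]
    exact sum_mem fun b _ => Ideal.mul_mem_left _ _ (hPt b)
  have hMJ : M ≤ M ^ 2 ⊔ mT := fun z hz => by
    have h0 : MvPowerSeries.constantCoeff (lift z) = 0 := (hM1 z _ (hlift z)).trans hz
    have h1 : z - ∑ i, algebraMap K _ (L1 z i) * t i ∈ M ^ 2 := by
      rw [← hε, map_sub, map_sum]
      have h2 := Ideal.mem_map_of_mem (Ideal.Quotient.mk (Ideal.span {f})) (sub_lin_mem h0)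
      rw [Ideal.map_pow, map_sub, hlift, map_sum] at h2
      have h3 : ∑ i, Ideal.Quotient.mk (Ideal.span {f}) (MvPowerSeries.C (lc (lift z) i) * MvPowerSeries.X i) -
          ∑ i, ε (algebraMap K _ (L1 z i) * t i) ∈ mS ^ 2 := by
        rw [← Finset.sum_sub_distrib]
        refine sum_mem fun i _ => ?_
        rw [map_mul, map_mul, AlgHom.commutes]
        show Ideal.Quotient.mk _ (algebraMap K P (L1 z i)) * _ - _ ∈ _
        rw [Ideal.Quotient.mk_algebraMap, ← mul_sub, ← neg_sub (ε (t i))]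
        exact Ideal.mul_mem_left _ _ (neg_mem (ht i))
      have h5 := add_mem h2 h3
      rw [sub_add_sub_cancel] at h5
      exact h5
    have h4 : ∑ i, algebraMap K _ (L1 z i) * t i ∈ M ^ 2 ⊔ mT :=
      sum_mem fun i _ => Ideal.mul_mem_left _ _ (htJ i)
    simpa using add_mem (Ideal.mem_sup_left h1) h4
  -- derivations of the residue field vanish
  have hder : ∀ (φ : Ω[L⁄k] →ₗ[L] L) (o : O), φ (KaehlerDifferential.D k L (res o)) = 0 := fun φ o => by
    let d₀ : O →ₗ[k] K :=
      { toFun := fun o => ω (φ (KaehlerDifferential.D k L (res o)))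
        map_add' := fun a b => by simp
        map_smul' := fun c a => by
          rw [map_smul, Derivation.map_smul, LinearMap.map_smul_of_tower, map_smul, RingHom.id_apply] }
    obtain ⟨d, hd₁, hd₂⟩ := exists_deriv_ext K (Λ := K) σ d₀ fun a b => by
      show ω (φ (KaehlerDifferential.D k L (res (a * b)))) = _
      rw [map_mul, Derivation.leibniz, map_add, map_smul, map_smul, map_add, smul_eq_mul, smul_eq_mul, map_mul, map_mul]
      simp [σ, d₀]
    have hzero : ∀ x ∈ M ^ 2 ⊔ mT, d x = 0 := by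
      intro x hx
      obtain ⟨a, ha, b, hb, rfl⟩ := Submodule.mem_sup.1 hx
      rw [map_add]
      have h1 : d a = 0 := by
        rw [pow_two] at ha
        refine Submodule.mul_induction_on ha (fun u hu v hv => ?_) fun u v hu hv => by rw [map_add, hu, hv, add_zero]
        rw [hd₂, show σ u = 0 from hu, show σ v = 0 from hv, zero_mul, zero_mul, add_zero]
      have h2 : d b = 0 := by
        refine Submodule.span_induction (fun y hy => ?_) (map_zero d) (fun u v _ _ hu hv => by
          rw [map_add, hu, hv, add_zero]) (fun c u hu' hu => ?_) hb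
        · obtain ⟨o, ho, rfl⟩ := hy
          show d ((1 : K) ⊗ₜ o) = 0
          rw [hd₁]
          show ω (φ (KaehlerDifferential.D k L (res o))) = 0
          rw [show res o = 0 from Ideal.Quotient.eq_zero_iff_mem.2 ho, map_zero, map_zero, map_zero]
        · rw [smul_eq_mul, hd₂, show σ u = 0 from hmTM hu', zero_mul, hu, mul_zero, add_zero]
      rw [h1, h2, add_zero]
    have h3 : ((1 : K) ⊗ₜ[k] o) - algebraMap K _ (σ (1 ⊗ₜ o)) ∈ M := by
      show σ (_ - algebraMap K _ _) = 0
      rw [map_sub, AlgHom.commutes]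
      exact sub_self _
    have h4 := hzero _ (hMJ h3)
    rw [map_sub, hd₁, Algebra.algebraMap_eq_smul_one, map_smul, Algebra.TensorProduct.one_def, hd₁] at h4
    have h5 : d₀ 1 = 0 := by
      show ω (φ (KaehlerDifferential.D k L (res 1))) = 0
      rw [map_one, Derivation.map_one_eq_zero, map_zero, map_zero]
    rw [h5, smul_zero, sub_zero] at h4
    exact ω.toRingHom.injective (h4.trans (map_zero _).symm)
  have hdzero : ∀ l : L, KaehlerDifferential.D k L l = 0 := fun l => by
    rw [← Module.forall_dual_apply_eq_zero_iff L]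
    intro φ
    obtain ⟨o, rfl⟩ := Ideal.Quotient.mk_surjective l
    exact hder φ o
  haveI : Algebra.FormallyUnramified k L := by
    rw [Algebra.formallyUnramified_iff]
    refine ⟨fun a b => ?_⟩
    have h0 : ∀ x : Ω[L⁄k], x = 0 := fun x => by
      have hx : x ∈ Submodule.span L (Set.range (KaehlerDifferential.D k L)) :=
        KaehlerDifferential.span_range_derivation k L ▸ Submodule.mem_top
      refine Submodule.span_induction (fun y hy => ?_) rfl (fun u v _ _ hu hv => by rw [hu, hv, add_zero])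
        (fun c u _ hu => by rw [hu, smul_zero]) hx
      obtain ⟨l, rfl⟩ := hy
      exact hdzero l
    rw [h0 a, h0 b]
  haveI : Algebra.EssFiniteType k L := Algebra.EssFiniteType.comp k O L
  haveI : Algebra.IsSeparable k L := Algebra.FormallyUnramified.isSeparable k L
  intro x
  obtain ⟨c, hc⟩ := IsPurelyInseparable.surjective_algebraMap_of_isSeparable k L (Ideal.Quotient.mk _ x)
  refine ⟨c, Ideal.Quotient.eq.1 ?_⟩
  rw [← hc, IsScalarTower.algebraMap_apply k O L]
  rfl

end Groth.Agent.An92.MorseA
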