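import Groth.Agent.An92.Morse.Main
import Groth.Agent.An92.MorseA.Dual
import Groth.Prelude.Def_QuadSing

/-! The henselization of affine space over a henselian local ring at the origin of the closed fibre. -/

set_option autoImplicit false
set_option linter.style.haveILetI false

universe u

open IsLocalRing Matrix

namespace Groth.Agent.An92.MorseA

section

variable (A : Type u) [CommRing A] [IsLocalRing A] (N : ℕ)

/-- The origin of the closed fibre. -/
noncomputable abbrev org : Ideal (MvPolynomial (Fin N) A) :=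
  RingHom.ker ((residue A).comp (MvPolynomial.constantCoeff : MvPolynomial (Fin N) A →+* A))

instance org_isPrime : (org A N).IsPrime := RingHom.ker_isPrime _

/-- The local ring at the origin of the closed fibre. -/
abbrev Loc : Type u := Localization.AtPrime (org A N)

/-- Its henselization. -/
abbrev HA : Type u := Henz21.Henselization (Loc A N)

/-- Polynomials in the henselization. -/
noncomputable abbrev ι : MvPolynomial (Fin N) A →+* HA A N :=
  (algebraMap (Loc A N) (HA A N)).comp (algebraMap (MvPolynomial (Fin N) A) (Loc A N))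

/-- Scalars in the henselization. -/
noncomputable def κ : A →+* HA A N := (ι A N).comp MvPolynomial.C

/-- The coordinates. -/
noncomputable def xv : Fin N → HA A N := fun i => ι A N (MvPolynomial.X i)

theorem mem_org_iff {p : MvPolynomial (Fin N) A} :
    p ∈ org A N ↔ MvPolynomial.constantCoeff p ∈ maximalIdeal A := by
  rw [RingHom.mem_ker, RingHom.comp_apply, residue_eq_zero_iff]

theorem sub_const_mem (p : MvPolynomial (Fin N) A) :
    p - MvPolynomial.C (MvPolynomial.constantCoeff p) ∈ Ideal.span (Set.range MvPolynomial.X) := by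
  induction p using MvPolynomial.induction_on with
  | C a => simp
  | add a b ha hb => convert add_mem ha hb using 1; simp; ring
  | mul_X a i _ => simpa using Ideal.mul_mem_left (Ideal.span (Set.range (MvPolynomial.X (R := A) (σ := Fin N)))) a (Ideal.subset_span ⟨i, rfl⟩)

theorem org_eq : org A N = VanCyc.originIdeal A := by
  refine le_antisymm (fun p hp => ?_) (sup_le ?_ (Ideal.span_le.2 ?_))
  · have := add_mem (Ideal.mem_sup_right (S := (maximalIdeal A).map MvPolynomial.C) (sub_const_mem A N p))
      (Ideal.mem_sup_left (Ideal.mem_map_of_mem MvPolynomial.C ((mem_org_iff A N).1 hp)))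
    rwa [sub_add_cancel] at this
  · rw [Ideal.map_le_iff_le_comap]
    intro a ha
    simpa [mem_org_iff] using ha
  · rintro _ ⟨i, rfl⟩
    simp [RingHom.mem_ker]

theorem maximalIdeal_eq :
    maximalIdeal (HA A N) = (maximalIdeal A).map (κ A N) ⊔ Ideal.span (Set.range (xv A N)) := by
  rw [← Henz21.henselization_map_maximalIdeal (R := Loc A N) (HA A N),
    ← Localization.AtPrime.map_eq_maximalIdeal, Ideal.map_map]
  refine (congrArg (Ideal.map _) (org_eq A N)).trans ?_
  rw [VanCyc.originIdeal, Ideal.map_sup, Ideal.map_map, Ideal.map_span, ← Set.range_comp]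
  rfl

theorem κ_mem {a : A} (ha : a ∈ maximalIdeal A) : κ A N a ∈ maximalIdeal (HA A N) :=
  maximalIdeal_eq A N ▸ Ideal.mem_sup_left (Ideal.mem_map_of_mem _ ha)

theorem xv_mem (i : Fin N) : xv A N i ∈ maximalIdeal (HA A N) :=
  maximalIdeal_eq A N ▸ Ideal.mem_sup_right (Ideal.subset_span ⟨i, rfl⟩)

variable {A N}

/-- Maps out of the henselization. -/
theorem existsUnique_hom {T : Type u} [CommRing T] [HenselianLocalRing T]
    (f : MvPolynomial (Fin N) A →+* T) (hA : ∀ a ∈ maximalIdeal A, f (.C a) ∈ maximalIdeal T)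
    (hf : ∀ i, f (.X i) ∈ maximalIdeal T) :
    (∃ g : HA A N →+* T, g.comp (ι A N) = f ∧ IsLocalHom g) ∧
      ∀ g₁ g₂ : HA A N →+* T, g₁.comp (ι A N) = f → g₂.comp (ι A N) = f → g₁ = g₂ := by
  have hle : org A N ≤ (maximalIdeal T).comap f := by
    rw [org_eq]
    refine sup_le (Ideal.map_le_iff_le_comap.2 fun a ha => hA a ha) (Ideal.span_le.2 ?_)
    rintro _ ⟨i, rfl⟩
    exact hf i
  have hu : ∀ y : (org A N).primeCompl, IsUnit (f y) := fun y => by
    by_contra hn
    have h2 : f (y.1 - .C (MvPolynomial.constantCoeff y.1)) ∈ maximalIdeal T :=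
      hle ((mem_org_iff A N).2 (by simp))
    rw [map_sub] at h2
    have hcu : IsUnit (f (.C (MvPolynomial.constantCoeff y.1))) :=
      ((IsLocalRing.notMem_maximalIdeal.1 fun h => y.2 ((mem_org_iff A N).2 h)).map MvPolynomial.C).map f
    refine (mem_maximalIdeal _).1 ?_ hcu
    simpa using (maximalIdeal T).sub_mem ((mem_maximalIdeal _).2 hn) h2
  let f0 : Loc A N →+* T := IsLocalization.lift hu
  have h0 : f0.comp (algebraMap _ _) = f := IsLocalization.lift_comp hu
  haveI hf0 : IsLocalHom f0 := by
    refine ((local_hom_TFAE f0).out 2 0).mp ?_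
    rw [← Localization.AtPrime.map_eq_maximalIdeal, Ideal.map_map, h0, Ideal.map_le_iff_le_comap]
    exact hle
  obtain ⟨g, hg, hgu⟩ := (Henz21.Henselization.isHenselization (Loc A N)).universal T f0 inferInstance
  refine ⟨⟨g, by rw [← RingHom.comp_assoc, hg, h0], ?_⟩, fun g₁ g₂ h₁ h₂ => ?_⟩
  · refine ((local_hom_TFAE g).out 2 0).mp ?_
    rw [← Henz21.henselization_map_maximalIdeal (R := Loc A N) (HA A N), Ideal.map_map, hg]
    exact ((local_hom_TFAE f0).out 0 2).mp hf0
  · have key : ∀ g' : HA A N →+* T, g'.comp (ι A N) = f → g'.comp (algebraMap (Loc A N) (HA A N)) = f0 :=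
      fun g' h' => IsLocalization.ringHom_ext (org A N).primeCompl (by rw [RingHom.comp_assoc, h', h0])
    exact (hgu _ (key g₁ h₁)).trans (hgu _ (key g₂ h₂)).symm

/-- Two maps out of the henselization into a henselian ring agreeing on scalars and coordinates. -/
theorem hom_ext {T : Type u} [CommRing T] [HenselianLocalRing T] (g₁ g₂ : HA A N →+* T) [IsLocalHom g₂]
    (hC : ∀ a, g₁ (κ A N a) = g₂ (κ A N a)) (hX : ∀ i, g₁ (xv A N i) = g₂ (xv A N i)) : g₁ = g₂ := by
  refine (existsUnique_hom (g₂.comp (ι A N)) (fun a ha => Morse.map_mem g₂ (κ_mem A N ha))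
    fun i => Morse.map_mem g₂ (xv_mem A N i)).2 _ _ (MvPolynomial.ringHom_ext hC hX) rfl

/-- Maps given on coordinates. -/
theorem exists_hom {T : Type u} [CommRing T] [HenselianLocalRing T] (f : A →+* T) [IsLocalHom f]
    (t : Fin N → T) (ht : ∀ i, t i ∈ maximalIdeal T) :
    ∃ g : HA A N →+* T, IsLocalHom g ∧ (∀ a, g (κ A N a) = f a) ∧ ∀ i, g (xv A N i) = t i := by
  obtain ⟨g, hg, hgl⟩ := (existsUnique_hom (MvPolynomial.eval₂Hom f t)
    (fun a ha => by simpa using Morse.map_mem f ha) fun i => by simpa using ht i).1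
  exact ⟨g, hgl, fun a => (RingHom.congr_fun hg _).trans (by simp),
    fun i => (RingHom.congr_fun hg _).trans (by simp)⟩

end

variable (A : Type u) [CommRing A] [HenselianLocalRing A] (N : ℕ)

/-- Evaluation at a point of the closed fibre's germ. -/
theorem exists_eval (v : Fin N → A) (hv : ∀ i, v i ∈ maximalIdeal A) :
    ∃ e : HA A N →+* A, IsLocalHom e ∧ (∀ a, e (κ A N a) = a) ∧ ∀ i, e (xv A N i) = v i :=
  exists_hom (RingHom.id A) v hv

/-- Expansion at the origin. -/
theorem exists_expand (t : HA A N) :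
    ∃ (a : A) (r : Fin N → HA A N), t = κ A N a + ∑ i, xv A N i * r i := by
  obtain ⟨e, hel, heC, heX⟩ := exists_eval A N 0 fun _ => zero_mem _
  let I : Ideal (HA A N) := Ideal.span (Set.range (xv A N))
  have hI : I ≤ maximalIdeal (HA A N) := Ideal.span_le.2 (Set.range_subset_iff.2 (xv_mem A N))
  let π := Ideal.Quotient.mk I
  haveI : Nontrivial (HA A N ⧸ I) := Ideal.Quotient.nontrivial_iff.2 fun h =>
    (maximalIdeal.isMaximal (HA A N)).ne_top (top_le_iff.1 (h ▸ hI))
  haveI : IsLocalRing (HA A N ⧸ I) := IsLocalRing.of_surjective' π Ideal.Quotient.mk_surjective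
  haveI : HenselianLocalRing (HA A N) := inferInstance
  haveI := EtAlg23.henselianLocalRing_of_surjective π Ideal.Quotient.mk_surjective
  haveI : IsLocalHom π := IsLocalHom.of_surjective _ Ideal.Quotient.mk_surjective
  have h : ((π.comp (κ A N)).comp e) = π := by
    refine hom_ext _ _ (fun a => congrArg (fun b => π (κ A N b)) (heC a)) fun i => ?_
    refine ((congrArg (fun b => π (κ A N b)) (heX i)).trans (by simp)).trans (Ideal.Quotient.eq_zero_iff_mem.2 (show xv A N i ∈ I from Ideal.subset_span (Set.mem_range_self i))).symm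
  have hm : t - κ A N (e t) ∈ I := Ideal.Quotient.eq.1 (RingHom.congr_fun h t).symm
  obtain ⟨r, hr⟩ := Ideal.mem_span_range_iff_exists_fun.1 hm
  refine ⟨e t, r, ?_⟩
  rw [Finset.sum_congr rfl fun i _ => mul_comm (xv A N i) (r i), hr]
  ring

/-- Surjectivity of the map of henselizations induced by a structure map. -/
theorem surjective_of_structure {B L Lh W H : Type u} [CommRing B] [CommRing L] [IsLocalRing L]
    [CommRing Lh] [IsLocalRing Lh] [Algebra L Lh] [IsLocalHom (algebraMap L Lh)] [Hensel.IsHenselization L Lh]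
    [CommRing W] [IsLocalRing W] [CommRing H] [IsLocalRing H] [Algebra W H] [IsLocalHom (algebraMap W H)]
    [Hensel.IsHenselization W H] [Algebra B L] [Algebra B W] [Algebra.EssFiniteType B W]
    (φ : L →+* W) [IsLocalHom φ] (hφB : φ.comp (algebraMap B L) = algebraMap B W)
    (hm : (maximalIdeal L).map φ = maximalIdeal W) (hres : ∀ x : W, ∃ a : L, x - φ a ∈ maximalIdeal W)
    (g : Lh →+* H) [IsLocalHom g] (hg : g.comp (algebraMap L Lh) = (algebraMap W H).comp φ) :
    Function.Surjective g := by
  letI := φ.toAlgebra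
  haveI : IsScalarTower B L W := IsScalarTower.of_algebraMap_eq' hφB.symm
  haveI : Algebra.EssFiniteType L W := Algebra.EssFiniteType.of_comp B L W
  letI : Algebra L H := ((algebraMap W H).comp φ).toAlgebra
  haveI : IsScalarTower L W H := IsScalarTower.of_algebraMap_eq' rfl
  haveI : IsLocalHom (algebraMap L W) := ‹IsLocalHom φ›
  let g' : Lh →ₐ[L] H := { g with commutes' := RingHom.congr_fun hg }
  haveI : IsLocalHom g'.toRingHom := ‹IsLocalHom g›
  exact Morse.surjective_henselization hm hres g'

/-- Endomorphisms given by a system of coordinates are surjective. -/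
theorem exists_surjective_endo (y : Fin N → HA A N) (hy : ∀ i, y i ∈ maximalIdeal (HA A N))
    (hgen : maximalIdeal (HA A N) ≤ (maximalIdeal A).map (κ A N) ⊔ Ideal.span (Set.range y)) :
    ∃ g : HA A N →+* HA A N, IsLocalHom g ∧ Function.Surjective g ∧
      (∀ a, g (κ A N a) = κ A N a) ∧ ∀ i, g (xv A N i) = y i := by
  classical
  let L := Loc A N
  obtain ⟨i, hi⟩ := Hensel20.exists_stage (R := L) (K := ResidueField L) Finset.univ y
  choose y' hy' using fun l => hi l (Finset.mem_univ l)
  let W := Hensel20.Stage i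
  let H := HA A N
  haveI hWH : Hensel.IsHenselization W H := Morse.isHenselization_stage i
  let cA : A →+* W := (algebraMap L W).comp ((algebraMap (MvPolynomial (Fin N) A) L).comp MvPolynomial.C)
  have hcA : ∀ a, algebraMap W H (cA a) = κ A N a := fun a =>
    (IsScalarTower.algebraMap_apply L W H _).symm
  have hyW : ∀ l, algebraMap W H (y' l) = y l := hy'
  have hmem : ∀ {w : W}, algebraMap W H w ∈ maximalIdeal H → w ∈ maximalIdeal W := fun {w} hw =>
    (mem_maximalIdeal w).2 fun hu => (mem_maximalIdeal _).1 hw (hu.map _)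
  haveI : IsLocalHom cA := ⟨fun a ha => by
    by_contra hn
    exact (mem_maximalIdeal _).1 (κ_mem A N ((mem_maximalIdeal a).2 hn)) (hcA a ▸ ha.map _)⟩
  let f : MvPolynomial (Fin N) A →+* W := MvPolynomial.eval₂Hom cA y'
  have hle : org A N ≤ (maximalIdeal W).comap f := by
    refine le_of_eq_of_le (org_eq A N) ?_
    refine sup_le (Ideal.map_le_iff_le_comap.2 fun a ha => ?_) (Ideal.span_le.2 ?_)
    · simpa [f] using Morse.map_mem cA ha
    · rintro _ ⟨l, rfl⟩
      simpa [f] using hmem ((hyW l).symm ▸ hy l)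
  have hu : ∀ q : (org A N).primeCompl, IsUnit (f q) := fun q => by
    by_contra hn
    have h2 : f (q.1 - .C (MvPolynomial.constantCoeff q.1)) ∈ maximalIdeal W :=
      hle ((mem_org_iff A N).2 (by simp))
    rw [map_sub] at h2
    have hcu : IsUnit (f (.C (MvPolynomial.constantCoeff q.1))) :=
      ((IsLocalRing.notMem_maximalIdeal.1 fun h => q.2 ((mem_org_iff A N).2 h)).map MvPolynomial.C).map f
    refine (mem_maximalIdeal _).1 ?_ hcu
    simpa using (maximalIdeal W).sub_mem ((mem_maximalIdeal _).2 hn) h2
  let φ : L →+* W := IsLocalization.lift hu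
  have hφ : ∀ p, φ (algebraMap _ L p) = f p := fun p => IsLocalization.lift_eq hu p
  haveI : IsLocalHom φ := ((local_hom_TFAE φ).out 2 0).mp (by
    rw [← Localization.AtPrime.map_eq_maximalIdeal, Ideal.map_map, Ideal.map_le_iff_le_comap]
    intro p hp
    rw [Ideal.mem_comap, RingHom.comp_apply, hφ]
    exact hle hp)
  have hres : ∀ x : W, ∃ a : L, x - φ a ∈ maximalIdeal W := fun x => by
    obtain ⟨a, r, har⟩ := exists_expand A N (algebraMap W H x)
    refine ⟨algebraMap (MvPolynomial (Fin N) A) L (MvPolynomial.C a), hmem ?_⟩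
    rw [map_sub, hφ, show f (MvPolynomial.C a) = cA a by simp [f], hcA, har, add_sub_cancel_left]
    exact sum_mem fun l _ => Ideal.mul_mem_right _ _ (xv_mem A N l)
  have hm : (maximalIdeal L).map φ = maximalIdeal W := by
    refine le_antisymm (((local_hom_TFAE φ).out 0 2).mp ‹_›) fun w hw => ?_
    haveI := Hensel20.stage_isLocalHom i
    have h1 : algebraMap W H w ∈ maximalIdeal H := Morse.map_mem (algebraMap W H) hw
    have h2 : algebraMap W H w ∈ ((maximalIdeal L).map φ).map (algebraMap W H) := by
      refine (le_trans hgen (sup_le ?_ ?_)) h1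
      · rw [Ideal.map_le_iff_le_comap]
        intro a ha
        rw [Ideal.mem_comap, ← hcA]
        refine Ideal.mem_map_of_mem _ ?_
        rw [show cA a = φ (algebraMap (MvPolynomial (Fin N) A) L (MvPolynomial.C a)) by rw [hφ]; simp [f]]
        refine Ideal.mem_map_of_mem _ ?_
        rw [IsLocalization.AtPrime.to_map_mem_maximal_iff L (org A N), mem_org_iff]
        simpa using ha
      · rw [Ideal.span_le]
        rintro _ ⟨l, rfl⟩
        rw [SetLike.mem_coe, ← hyW]
        refine Ideal.mem_map_of_mem _ ?_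
        rw [show y' l = φ (algebraMap (MvPolynomial (Fin N) A) L (MvPolynomial.X l)) by rw [hφ]; simp [f]]
        refine Ideal.mem_map_of_mem _ ?_
        rw [IsLocalization.AtPrime.to_map_mem_maximal_iff L (org A N), mem_org_iff]
        simp
    haveI : Module.FaithfullyFlat W H := Hensel20.stage_faithfullyFlat i
    rwa [← Ideal.mem_comap, Ideal.comap_map_eq_self_of_faithfullyFlat] at h2
  haveI : Algebra.EssFiniteType A L := Algebra.EssFiniteType.comp A (MvPolynomial (Fin N) A) L
  letI algAW : Algebra A W := cA.toAlgebra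
  haveI : Algebra.EssFiniteType A W := by
    haveI hLW : Algebra.EssFiniteType L W := Hensel20.stage_essFiniteType i
    haveI : IsScalarTower A L W := IsScalarTower.of_algebraMap_eq fun a => by
      show cA a = algebraMap L W _
      rw [IsScalarTower.algebraMap_apply A (MvPolynomial (Fin N) A) L]
      rfl
    exact Algebra.EssFiniteType.comp A L W
  have key : ∃ g : H →+* H, IsLocalHom g ∧ Function.Surjective g ∧
      ∀ p, g (ι A N p) = algebraMap W H (f p) := by
    haveI : IsLocalHom ((algebraMap W H).comp φ) := by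
      haveI := Hensel20.stage_isLocalHom i
      exact RingHom.isLocalHom_comp _ _
    obtain ⟨g, hg, -⟩ := (Henz21.Henselization.isHenselization L).universal H ((algebraMap W H).comp φ) inferInstance
    haveI hgl : IsLocalHom g := by
      refine ((local_hom_TFAE g).out 2 0).mp ?_
      conv_lhs => rw [← Henz21.henselization_map_maximalIdeal (R := L) H, Ideal.map_map, hg]
      exact ((local_hom_TFAE _).out 0 2).mp ‹IsLocalHom ((algebraMap W H).comp φ)›
    exact ⟨g, hgl, surjective_of_structure φ (RingHom.ext fun a => by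
      rw [RingHom.comp_apply, IsScalarTower.algebraMap_apply A (MvPolynomial (Fin N) A) L, hφ]
      exact MvPolynomial.eval₂_C cA y' a) hm hres g hg,
      fun p => (RingHom.congr_fun hg _).trans (congrArg (algebraMap W H) (hφ p))⟩
  obtain ⟨g, hgl, hgs, hg⟩ := key
  exact ⟨g, hgl, hgs, fun a => (hg _).trans (by simp [f, hcA]), fun l => (hg _).trans (by simp [f, hyW])⟩

end Groth.Agent.An92.MorseA
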